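import Cfsg.Agent.BZ.L.Tw.CoB

/-!
# BZ / Tw : two cycles; the pure theorem (helper7)

`Cx.caseD`, **`boxCore`**.
-/

set_option autoImplicit false
set_option linter.unusedSectionVars false

namespace Cfsg.Agent.BZ.Tw

namespace Co

open Subgroup Cfsg.Agent.BZ.L Cfsg.Agent.BZ.Lab.Cor

variable {K : Type} [Group K] [Finite K] {A : Type} [CommGroup A] {I C : Type} {Z D P Q S : Subgroup K}

/-- equal up to the sign -/
def Sg {G : Type} [Group G] (a b : G) : Prop := a = b ∨ a = b⁻¹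

/-- exactly two cycles, both positive -/
structure Two (cy : I → C) (π : I → P →* A) (a b : I) : Prop where
  ha : π a ≠ 1
  hb : π b ≠ 1
  ne : cy a ≠ cy b
  all : ∀ x, cy x = cy a ∨ cy x = cy b

theorem Two.symm {cy : I → C} {π : I → P →* A} {a b : I} (T : Two cy π a b) : Two cy π b a :=
  ⟨T.hb, T.ha, T.ne.symm, fun x => (T.all x).symm⟩

namespace Cx

variable {ι : A →* ℂˣ} {cy : I → C} {π : I → P →* A} {ω : I → Q →* A} (X : Cx ι Z D P Q S cy π ω) {a b : I} (T : Two cy π a b)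
include X T

theorem cls (x : I) : Sg (π x) (π a) ∨ Sg (π x) (π b) := (T.all x).imp (X.W.cyp a x T.ha).1 (X.W.cyp b x T.hb).1

theorem allp (x : I) : π x ≠ 1 := by
  rcases X.cls T x with (e | e) | e | e <;> simp only [e, ne_eq, inv_eq_one, T.ha, T.hb, not_false_eq_true]

theorem fix2 {g : S} (h1 : X.aP g (π a) = π a) (h2 : X.aP g (π b) = π b) : (g : K) ∈ centralizer (P : Set K) := X.cenP fun x => by
  rcases X.cls T x with (e | e) | e | e <;> simp only [e, map_inv, h1, h2]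

theorem nb (g : S) {c : P →* A} (h1 : Sg (X.aP g (π a)) c) (h2 : Sg (X.aP g (π b)) c) : False := by
  refine T.ne ((X.W.cyp b a T.hb).2 ?_)
  rw [← (X.aP g).injective.eq_iff, ← (X.aP g).injective.eq_iff (a := π a) (b := (π b)⁻¹), map_inv]
  rcases h1 with e | e <;> rcases h2 with e' | e' <;> simp only [e, e', inv_inv, true_or, or_true]

theorem typ (g : S) : (Sg (X.aP g (π a)) (π a) ∧ Sg (X.aP g (π b)) (π b)) ∨ (Sg (X.aP g (π a)) (π b) ∧ Sg (X.aP g (π b)) (π a)) := by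
  obtain ⟨x, h1, -⟩ := X.act g a
  obtain ⟨y, h2, -⟩ := X.act g b
  have h3 := h1 ▸ X.cls T x
  have h4 := h2 ▸ X.cls T y
  rcases h3 with e | e <;> rcases h4 with e' | e'
  · exact (X.nb T g e e').elim
  · exact Or.inl ⟨e, e'⟩
  · exact Or.inr ⟨e, e'⟩
  · exact (X.nb T g e e').elim

theorem cm2 : ∀ u ∈ D, ∀ t ∈ Q, u * t * u⁻¹ * t⁻¹ ∈ Z := X.dual (fun _ hg x => X.h0 hg (X.allp T x)) fun g => by
  rw [show g ^ 2 ^ 2 = g * (g * (g * g)) by rw [show 2 ^ 2 = 4 from rfl]; simp only [pow_succ', pow_zero, mul_one]]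
  rcases X.typ T g with ⟨e | e, e' | e'⟩ | ⟨e | e, e' | e'⟩ <;>
    exact X.fix2 T (by simp only [ca_mul, e, e', map_inv, inv_inv]) (by simp only [ca_mul, e, e', map_inv, inv_inv])

variable {u : K} {s : S} (h : Lf D Q u s)
include h

theorem kz (t : Q) : ∃ z : Q, (z : K) ∈ Z ∧ ∀ φ, X.aQ s φ t = φ z * φ t := by
  have h1 := X.cm2 T u⁻¹ (inv_mem h.mem) t t.2
  exact ⟨⟨_, X.R.zq h1⟩, h1, fun φ => by rw [← map_mul]; exact X.lf_val h φ (by simp [mul_assoc])⟩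

theorem k1 (x : I) : X.aQ s (ω x) ^ 2 = ω x ^ 2 := MonoidHom.ext fun t => by
  obtain ⟨z, h1, h2⟩ := X.kz T h t
  rw [MonoidHom.pow_apply, MonoidHom.pow_apply, h2, mul_pow, sq, X.zsq x h1, one_mul]

theorem k2 (x y : I) : X.aQ s (ω x) * ω y = X.aQ s (ω y) * ω x := MonoidHom.ext fun t => by
  obtain ⟨z, h1, h2⟩ := X.kz T h t
  rw [MonoidHom.mul_apply, MonoidHom.mul_apply, h2, h2, X.W.zs z h1 x y, mul_right_comm]

omit h in
theorem fa (e : X.aQ s (ω a) = ω a) : X.aP s (π a) = π a := by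
  obtain ⟨x, h1, h2⟩ := X.act s a
  rw [e] at h2
  have h3 : cy x = cy a := by
    by_contra e1
    obtain ⟨t, k1, k2⟩ := X.W.g1 a T.ha
    exact k1 (h2 ▸ k2 x e1)
  refine h1.trans (((X.W.cyp a x T.ha).1 h3).resolve_right fun e1 => ?_)
  obtain ⟨n, hn⟩ := X.gal' T.ha e1
  obtain ⟨t, k1, -⟩ := X.W.g2 a b T.ha T.ne.symm
  exact k1 (X.four (X.two' _ t) (DFunLike.congr_fun (hn.symm.trans h2.symm) t))

theorem mv (e : X.aQ s (ω a) = ω a) : u ∈ Q := by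
  have h1 := X.k2 T h a b
  rw [e, mul_comm] at h1
  exact X.h1 h (X.fix2 T (X.fa T e) (X.fa T.symm (mul_right_cancel h1).symm))

theorem ninv (e : ω a ^ 4 ≠ 1) (h1 : Sg (X.aP s (π a)) (π a)) : X.aP s (π a) = π a := h1.resolve_right fun e1 => by
  obtain ⟨n, hn⟩ := X.inv_om T.ha e1
  have h2 := X.k1 T h a
  rw [hn, ← zpow_natCast, ← zpow_mul, mul_comm, zpow_mul, zpow_natCast] at h2
  exact e ((pow_mul _ 2 2).trans (X.four (sq2 (X.two _) 2) h2))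

omit h in
theorem d2 (e : ω b ^ 4 ≠ 1) : ⁅D, D⁆ ≤ Z := ab_of_two (X.cm2 T) fun u hu v hv h1 h2 => by
  obtain ⟨s, hs⟩ := X.exists_lf hu
  obtain ⟨t, ht⟩ := X.exists_lf hv
  by_cases e' : ω a ^ 4 = 1
  · have k : ∀ {u : K} {s : S}, Lf D Q u s → u ∉ Q → X.aP s (π a) = (π a)⁻¹ ∧ X.aP s (π b) = π b := fun {u s} hs hu => by
      rcases X.typ T s with ⟨e1, e2⟩ | ⟨-, e2⟩
      · have e3 := X.ninv T.symm hs e e2
        exact ⟨e1.resolve_left fun e4 => hu (X.h1 hs (X.fix2 T e4 e3)), e3⟩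
      · obtain ⟨y, k1, k2⟩ := X.act s b
        obtain ⟨m, hm⟩ : ∃ m : ℤ, ω y = ω a ^ m := e2.elim (fun e3 => (X.W.gal a y T.ha (k1.symm.trans e3)).elim fun _ e => ⟨_, e⟩)
          fun e3 => (X.gal' T.ha (k1.symm.trans e3)).elim fun _ e => ⟨_, e⟩
        refine (e ((X.aQ s).injective ?_)).elim
        rw [map_pow, k2, hm, map_one, ← zpow_natCast, ← zpow_mul, mul_comm, zpow_mul, zpow_natCast, e', one_zpow]
    exact X.h1 (X.lf_mul hs ht) (X.fix2 T (by rw [ca_mul, (k ht h2).1, map_inv, (k hs h1).1, inv_inv])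
      (by rw [ca_mul, (k ht h2).2, (k hs h1).2]))
  · have k : ∀ {u : K} {s : S}, Lf D Q u s → Sg (X.aP s (π a)) (π a) → Sg (X.aP s (π b)) (π b) → u ∈ Q := fun hs e1 e2 =>
      X.h1 hs (X.fix2 T (X.ninv T hs e' e1) (X.ninv T.symm hs e e2))
    obtain ⟨e1, e2⟩ := (X.typ T s).resolve_left fun e => h1 (k hs e.1 e.2)
    obtain ⟨e3, e4⟩ := (X.typ T t).resolve_left fun e => h2 (k ht e.1 e.2)
    refine k (X.lf_mul hs ht) ?_ ?_
    · rcases e2 with e2 | e2 <;> rcases e3 with e3 | e3 <;> simp only [Sg, ca_mul, e2, e3, map_inv, inv_inv, true_or, or_true]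
    · rcases e1 with e1 | e1 <;> rcases e4 with e4 | e4 <;> simp only [Sg, ca_mul, e1, e4, map_inv, inv_inv, true_or, or_true]

omit h in
theorem om4 (e : ω a ^ 4 = 1) {x : I} (hx : cy x = cy a) : ω x = ω a ∨ ω x = ω a * ω a ^ 2 := by
  have k : ∀ n : ℤ, ω a ^ (4 * n) = 1 := fun n => by rw [zpow_mul, show ω a ^ (4 : ℤ) = 1 from (zpow_natCast _ 4).trans e, one_zpow]
  refine ((X.W.cyp a x T.ha).1 hx).imp (fun e1 => ?_) fun e1 => ?_
  · obtain ⟨n, hn⟩ := X.W.gal a x T.ha e1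
    rw [hn, zpow_add, k, one_mul, zpow_one]
  · obtain ⟨n, hn⟩ := X.gal' T.ha e1
    rw [hn, zpow_add, k, one_mul, ← pow_succ']
    exact zpow_natCast _ 3

omit h in
theorem sqa (e : ω a ^ 4 = 1) {x : I} (hx : cy x = cy a) : ω x ^ 2 = ω a ^ 2 := by
  rcases X.om4 T e hx with e1 | e1 <;> rw [e1]
  rw [mul_pow, ← pow_mul, e, mul_one]

theorem mvs (hu : u ∉ Q) (e : ω a ^ 4 = 1) (e' : ω b ^ 4 = 1) : X.aQ s (ω a) = ω a * ω a ^ 2 ∨ ω a ^ 2 = ω b ^ 2 := by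
  obtain ⟨x, -, h2⟩ := X.act s a
  refine (T.all x).imp (fun e1 => h2.trans ((X.om4 T e e1).resolve_left fun e2 => hu (X.mv T h (h2.trans e2)))) fun e1 => ?_
  rw [← X.k1 T h a, h2, X.sqa T.symm e' e1]

theorem ex_z (hu : u ∉ Q) : ∃ t z : Q, (z : K) = u * t * u⁻¹ * (t : K)⁻¹ ∧ ω a z ≠ 1 := by
  by_contra! k
  refine hu (X.mv T h (MonoidHom.ext fun t => ?_))
  have h1 : u⁻¹ * t * u⁻¹⁻¹ ∈ Q := (mem_normalizer_iff.1 (inv_mem (X.nq h.mem)) (t : K)).1 t.2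
  have h2 := k ⟨_, h1⟩ (t * ⟨_, h1⟩⁻¹) (by simp [mul_assoc])
  rw [map_mul, map_inv, mul_inv_eq_one] at h2
  rw [h2]
  exact X.lf_val h _ (by simp [mul_assoc])

theorem sq_mem : u * u ∈ Q := X.mv T (X.lf_mul h h) (MonoidHom.ext fun t => by
  obtain ⟨z, h1, h2⟩ := X.kz T h t
  rw [ca_mul, h2, h2, X.lf_val h _ (t := z) (t' := z) (by rw [mem_center_iff.1 (X.hZ h1), mul_inv_cancel_right]), ← mul_assoc,
    X.zsq a h1, one_mul])

omit h in
theorem caseD (H : Sq Z Q cy ω) : ⁅D, D⁆ ≤ Z := by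
  by_cases e : ω a ^ 4 = 1
  swap
  · exact X.d2 T.symm e
  by_cases e' : ω b ^ 4 = 1
  swap
  · exact X.d2 T e'
  by_cases h : D ≤ Q
  · exact ab_of_le X.hQ h
  obtain ⟨u, hu, h1, -⟩ := X.exists_sq h
  obtain ⟨s, hs⟩ := X.exists_lf hu
  have h2 : ω a ^ 2 = ω b ^ 2 := (X.mvs T hs h1 e e').elim (fun k1 => (X.mvs T.symm hs h1 e' e).elim (fun k2 => by
    have := X.k2 T hs a b
    rw [k1, k2, mul_right_comm, mul_right_comm (ω b), mul_comm (ω b)] at this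
    exact mul_left_cancel this) Eq.symm) id
  have h3 : ∀ x, ω x ^ 2 = ω a ^ 2 := fun x => (T.all x).elim (X.sqa T e) fun e1 => (X.sqa T.symm e' e1).trans h2.symm
  obtain ⟨t, z, k1, k2⟩ := X.ex_z T hs h1
  have k3 : (z : K) ∈ Z := k1 ▸ X.cm2 T u hu t t.2
  have fin : ∀ v : Q, (∀ x y, ω x v = ω y v) → (v : K) ∈ Z := fun v hv => by
    by_cases e1 : ω a v = 1
    · exact X.W.ker v fun x => (hv x a).trans e1
    obtain ⟨y, -, -, k4⟩ := X.W.neg a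
    have k5 := hv a y
    rw [k4, MonoidHom.inv_apply] at k5
    have k6 := X.W.ker (v * z) fun x => by
      rw [map_mul, hv x a, X.W.zs z k3 x a]
      exact X.m1 (by rw [sq]; exact mul_eq_one_iff_eq_inv.2 k5) e1 (by rw [sq, X.zsq a k3]) k2
    exact (mul_mem_cancel_right k3).1 k6
  refine ab_of_sq fun v hv => ?_
  by_cases e1 : v ∈ Q
  · exact fin (⟨v, e1⟩ * ⟨v, e1⟩) fun x y => by
      rw [map_mul, map_mul, ← sq, ← sq, ← MonoidHom.pow_apply, ← MonoidHom.pow_apply, h3 x, h3 y]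
  · obtain ⟨s', hs'⟩ := X.exists_lf hv
    obtain ⟨t', k4, -⟩ := X.W.g2 a b T.ha T.ne.symm
    exact fin ⟨_, X.sq_mem T hs'⟩ (H a b T.ne T.all (fun e2 => k4 (DFunLike.congr_fun e2 t')) (fun x y => (h3 x).trans (h3 y).symm)
      v _ rfl (X.cm2 T v hv) (X.ex_z T hs' e1))

end Cx

end Co

open Co in
/-- **[Core]** -/
theorem boxCore : BoxCore := by
  intro K _ _ A _ I C Z D P Q S cy π ω ι hι hZ hQ o W M H
  have X : Cx ι Z D P Q S cy π ω := ⟨hι, hZ, hQ, o.res, o.nq, W⟩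
  by_cases h0 : ∀ x, π x = 1
  · exact ab_of_le hQ (X.caseA h0)
  obtain ⟨a, ha⟩ := not_forall.1 h0
  by_cases h1 : ∀ y, π y ≠ 1 → cy y = cy a
  · exact X.caseB M ha h1
  push Not at h1
  obtain ⟨b, hb, hab⟩ := h1
  by_cases h2 : ∃ a b, Two cy π a b
  · obtain ⟨a, b, T⟩ := h2
    exact X.caseD T H
  refine ab_of_le hQ (X.caseC (fun x y hx hy e => ?_) ha hb hab.symm)
  obtain ⟨z, hz⟩ : ∃ z, cy z ≠ cy x ∧ cy z ≠ cy y := by
    by_contra! k
    exact h2 ⟨x, y, hx, hy, e.symm, fun z => (em _).imp_right (k z)⟩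
  obtain ⟨t, k1, -, k2⟩ := W.g2 x z hx hz.1
  exact ⟨t, k1, k2 y e hz.2.symm⟩

end Cfsg.Agent.BZ.Tw
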