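import Cfsg.Agent.BZ.L.Tw.SqA
import Cfsg.Agent.PQ.SS.SemiP

/-!
# BZ / Tw : **`boxSq`** (helper5)
-/

set_option autoImplicit false
set_option linter.unusedSectionVars false

namespace Cfsg.Agent.BZ.Tw

namespace Sq

open Cfsg Subgroup Matrix Cfsg.Agent.DL Cfsg.Agent.KM Cfsg.Agent.BZ.L Cfsg.Agent.KM.Tor

section Units

variable {k : Type} [Field k]

theorem pm {x : kˣ} (h : x ^ 2 = 1) : x = 1 ∨ x = -1 := by
  simpa only [Units.ext_iff, Units.val_neg, Units.val_one] using sq_eq_one_iff.1 (show (x : k) ^ 2 = 1 from congrArg Units.val h)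

open Classical in
/-- the indicator of a value -/
noncomputable def ind (a x : kˣ) : ℤ := if x = a then 1 else 0

open Classical in
theorem id_inv {a : kˣ} (h : a⁻¹ = a) (x : kˣ) : ind a x⁻¹ = ind a x :=
  if_congr (by rw [inv_eq_iff_eq_inv, h]) rfl rfl

open Classical in
theorem id_neg (a x : kˣ) : ind a (-x) = ind (-a) x := if_congr neg_eq_iff_eq_neg rfl rfl

theorem id_sq (h : (-1 : kˣ) ≠ 1) (x : kˣ) : ind 1 (x ^ 2) = ind 1 x + ind (-1) x := by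
  unfold ind
  by_cases e : x ^ 2 = 1
  · rcases pm e with rfl | rfl <;> simp [h, h.symm]
  · rw [if_neg e, if_neg fun e' => e (by rw [e', one_pow]), if_neg fun e' => e (by rw [e', neg_one_sq]), add_zero]

theorem half {ζ : kˣ} {n : ℕ} (hn : 0 < n) (h : orderOf ζ = 2 * n) : ζ ^ n = -1 ∧ (-1 : kˣ) ≠ 1 := by
  have h1 : ζ ^ n ≠ 1 := pow_ne_one_of_lt_orderOf hn.ne' (by omega)
  have h2 := (pm (by rw [← pow_mul, mul_comm, ← h, pow_orderOf_eq_one])).resolve_left h1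
  exact ⟨h2, h2 ▸ h1⟩

theorem exists_coch {R : Type} {ζ : kˣ} {n : ℕ} (hn : 0 < n) (h : orderOf ζ = n) {c : R → kˣ} (hc : c ^ n = 1) : ∃ v, c = coch v ζ := by
  have : NeZero n := ⟨hn.ne'⟩
  choose v hv using fun i => (h ▸ IsPrimitiveRoot.orderOf ζ : IsPrimitiveRoot ζ n).eq_pow_of_mem_rootsOfUnity (ξ := c i) (congrFun hc i)
  exact ⟨fun i => v i, funext fun i => by rw [coch_apply, zpow_natCast, (hv i).2]⟩

end Units

variable {p : ℕ} [Fact p.Prime] {k : Type} [Field k] [CharP k p] [IsAlgClosed k] {Y : Type} [Group Y] {N : Type} [Fintype N]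
  [DecidableEq N] {ρ : Y →* GL N k} {F : MulAut Y} {G : Subgroup Y} {J : Type} [Fintype J] [DecidableEq J]
  {X : Datum p ρ F G} {θ : Y →* GL J k} {μ : J → X.R → ℤ} {f : ℕ} {e : ℤ} {b : X.R → J} {σ : Equiv.Perm J}
  {Z Q : Subgroup (GF F G)} {ω : {j // μ j ≠ 0} → Q →* kˣ}

/-- the hypotheses -/
structure Hy (X : Datum p ρ F G) (θ : Y →* GL J k) (μ : J → X.R → ℤ) (f : ℕ) (e : ℤ) (b : X.R → J) (σ : Equiv.Perm J)
    (Z Q : Subgroup (GF F G)) (ω : {j // μ j ≠ 0} → Q →* kˣ) : Prop where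
  nt : Nt2 X θ μ f e b σ
  h4 : 4 ∣ e - 1
  zq : Zq F G Z
  ts : Ts X 2 Q
  wo : Wo X μ ω
  sq : ∀ x y, ω x ^ 2 = ω y ^ 2
  ne : ∀ x, ω x ^ 2 ≠ 1
  two : ∀ x, ∃ y, Cy μ σ y ≠ Cy μ σ x

open Classical in
/-- the length of a cycle -/
noncomputable def kk (h : Nt2 X θ μ f e b σ) (x : {j // μ j ≠ 0}) : ℤ := ∑ i, if Cy μ σ ⟨b i, b_ne h i⟩ = Cy μ σ x then 1 else 0

namespace Hy

variable (h : Hy X θ μ f e b σ Z Q ω)
include h

theorem crd (t : Q) : ∃ c, X.τ c = ((t : GF F G) : Y) := (X.mem_T _).1 ((h.ts _).1 t.2).1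

theorem root (j : ℕ) : ∃ ζ : kˣ, orderOf ζ = 2 ^ j := exists_prim p k fun e =>
  two_ne h.nt h.h4 ((Nat.prime_dvd_prime_iff_eq Fact.out Nat.prime_two).1 ((Fact.out : p.Prime).dvd_of_dvd_pow e)).symm

theorem sq' (x y : {j // μ j ≠ 0}) (t : Q) : ω x t ^ 2 = ω y t ^ 2 := DFunLike.congr_fun (h.sq x y) t

theorem opp (x : {j // μ j ≠ 0}) : ∃ y, ∀ t, ω y t = (ω x t)⁻¹ := by
  obtain ⟨j, e'⟩ := h.nt.neg x
  refine ⟨⟨j, fun e'' => x.2 (neg_eq_zero.1 (e' ▸ e''))⟩, fun t => ?_⟩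
  obtain ⟨c, hc⟩ := h.crd t
  rw [h.wo _ t c hc, h.wo _ t c hc, e', chr_neg]

theorem four (x : {j // μ j ≠ 0}) (t : Q) : ω x t ^ 4 = 1 := by
  obtain ⟨y, e'⟩ := h.opp x
  have h1 := h.sq' x y t
  rw [e', inv_pow, eq_inv_iff_mul_eq_one, ← pow_add] at h1
  exact h1

theorem val_in {x : {j // μ j ≠ 0}} {w : X.R → ℤ} (hw : In μ σ x w) {t : Q} {c : X.R → kˣ} (hc : X.τ c = ((t : GF F G) : Y)) :
    chr w c = ω x t := by
  obtain ⟨i, rfl⟩ := hw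
  have h1 : mon X.Mx c = c := X.τ_inj (by rw [← X.F_τ, hc]; exact t.1.2.2)
  have h2 : ∀ j, chr (μ (σ j)) c = chr (μ j) c := fun j => by
    have h3 : chr (μ (σ j)) c ^ (4 : ℤ) = 1 := by
      by_cases e' : μ (σ j) = 0
      · rw [e', chr_zero, _root_.one_zpow]
      · rw [← h.wo ⟨_, e'⟩ t c hc]
        exact_mod_cast h.four _ t
    obtain ⟨z, hz⟩ := h.h4
    rw [← h1, chr_mon (μ j), h.nt.fr, chr_zsmul, h1, eq_add_of_sub_eq hz, _root_.zpow_add, _root_.zpow_mul, h3, _root_.one_zpow, one_mul,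
      zpow_one]
  induction i with
  | zero => exact (h.wo x t c hc).symm
  | succ i ih => rw [pow_succ', Equiv.Perm.mul_apply, h2, ih]

theorem val_cy {x y : {j // μ j ≠ 0}} (e' : Cy μ σ y = Cy μ σ x) (t : Q) : ω y t = ω x t ∨ ω y t = (ω x t)⁻¹ := by
  obtain ⟨c, hc⟩ := h.crd t
  rw [h.wo y t c hc]
  exact ((cy_iff h.nt).1 e').imp (fun e => h.val_in e hc) fun e => by rw [← h.val_in e hc, chr_neg, inv_inv]

theorem val_pm {x y : {j // μ j ≠ 0}} (e' : Cy μ σ y = Cy μ σ x) {t : Q} (ht : ω x t ^ 2 = 1) : ω y t = ω x t :=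
  (h.val_cy e' t).elim id fun e => e.trans (inv_eq_of_mul_eq_one_left (by rwa [← _root_.sq]))

theorem pos (x : {j // μ j ≠ 0}) (w : X.R → ℤ) (h1 : In μ σ x w) (h2 : In μ σ x (-w)) : False := h.ne x (MonoidHom.ext fun t => by
  obtain ⟨c, hc⟩ := h.crd t
  have h3 := h.val_in h2 hc
  rw [chr_neg, h.val_in h1 hc, inv_eq_iff_mul_eq_one, ← _root_.sq] at h3
  exact h3)

theorem exists_t (x : {j // μ j ≠ 0}) {c : ℤ} {ζ : kˣ} {j : ℕ} (hζ : orderOf ζ = 2 ^ j) (he : (2 : ℤ) ^ j ∣ e - 1)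
    (hv : ∃ v, ∀ i, μ (b i) ⬝ᵥ v = c * eta μ σ x (μ (b i))) : ∃ t : Q, ∀ y, ω y t = ζ ^ (c * eta μ σ x (μ y)) := by
  obtain ⟨v, hv⟩ := hv
  obtain ⟨h1, h2⟩ := vec_fix h.nt (h.pos x) hv
  obtain ⟨z, hz⟩ := he
  refine ⟨⟨⟨X.τ (coch v ζ), X.T_le_G (X.τ_mem _), ?_⟩, (h.ts _).2 ⟨X.τ_mem _, j, Subtype.ext ?_⟩⟩, fun y => ?_⟩
  · show F _ = X.τ _
    rw [X.F_τ, mon_coch, h2, F2.coch_eq.2 ⟨z • v, by rw [hζ, ← mul_smul, Nat.cast_pow, Nat.cast_ofNat, ← hz]; module⟩]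
  · show X.τ (coch v ζ) ^ 2 ^ j = 1
    rw [← map_pow, ← map_pow, ← hζ, pow_orderOf_eq_one, map_one, map_one]
  · rw [h.wo y _ _ rfl, chr_coch, ← h1]
    rfl

theorem no_t (x : {j // μ j ≠ 0}) {c : ℤ} {ζ : kˣ} {j : ℕ} (hζ : orderOf ζ = 2 ^ j) (he : (2 : ℤ) ^ j ∣ e - 1)
    (hv : ∃ v, ∀ i, μ (b i) ⬝ᵥ v = c * eta μ σ x (μ (b i))) : (2 : ℤ) ^ j ∣ c * 2 := by
  obtain ⟨t, ht⟩ := h.exists_t x hζ he hv
  obtain ⟨y, hy⟩ := h.two x
  have h1 := h.sq' x y t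
  rw [ht, ht, eta_self, eta_of_ne h.nt hy, mul_one, mul_zero, zpow_zero, one_pow, ← zpow_natCast, ← _root_.zpow_mul,
    ← orderOf_dvd_iff_zpow_eq_one, hζ] at h1
  exact_mod_cast h1

theorem lat (x : {j // μ j ≠ 0}) (v : X.R → ℤ) : Even (∑ i, μ (b i) ⬝ᵥ v) := by
  obtain ⟨ζ, hζ⟩ := h.root 2
  exact h.nt.lat.resolve_left (fun e' => by simpa using Int.le_of_dvd two_pos (h.no_t x (c := 1) hζ h.h4 (e' _))) v

theorem odd (x : {j // μ j ≠ 0}) : kk h.nt x % 2 = 1 := by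
  obtain ⟨ζ, hζ⟩ := h.root 2
  by_contra e'
  have h1 : (2 : ℤ) ∣ ∑ i, 1 * eta μ σ x (μ (b i)) - kk h.nt x := by
    rw [kk, ← Finset.sum_sub_distrib]
    refine Finset.dvd_sum fun i _ => ?_
    split_ifs with e''
    · rcases eta_of h.nt e'' with e | e <;> simp only [e] <;> decide
    · simp only [eta_of_ne h.nt e'']
      decide
  simpa using Int.le_of_dvd two_pos (h.no_t x (c := 1) hζ h.h4 (h.nt.ev _ (even_iff_two_dvd.2 (by omega))))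

theorem ev2 (x : {j // μ j ≠ 0}) : ∃ v, ∀ i, μ (b i) ⬝ᵥ v = 2 * eta μ σ x (μ (b i)) :=
  h.nt.ev _ (by rw [← Finset.mul_sum]; exact even_two_mul _)

theorem e8 (x : {j // μ j ≠ 0}) : e % 8 = 5 := by
  obtain ⟨ζ, hζ⟩ := h.root 3
  have h1 := mt (fun he => h.no_t x hζ he (h.ev2 x)) (by decide)
  have := h.h4
  omega

theorem neg_ne : (-1 : kˣ) ≠ 1 := (h.root 1).elim fun _ e => (half one_pos e).2

theorem exists_t1 (x : {j // μ j ≠ 0}) : ∃ t : Q, ∀ y, (Cy μ σ y = Cy μ σ x → ω y t = -1) ∧ (Cy μ σ y ≠ Cy μ σ x → ω y t = 1) := by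
  obtain ⟨ζ, hζ⟩ := h.root 2
  obtain ⟨t, ht⟩ := h.exists_t x hζ h.h4 (h.ev2 x)
  have h1 : ζ ^ (2 : ℤ) = -1 := (zpow_natCast ζ 2).trans (half two_pos hζ).1
  refine ⟨t, fun y => ⟨fun e' => ?_, fun e' => by rw [ht, eta_of_ne h.nt e', mul_zero, zpow_zero]⟩⟩
  rcases eta_of h.nt e' with e | e <;> simp [ht, e, h1]

theorem sm_eq {x : {j // μ j ≠ 0}} {t : Q} {c : X.R → kˣ} (hc : X.τ c = ((t : GF F G) : Y)) {a : kˣ}
    (ha : ∀ y, ω y t = a ↔ Cy μ σ y = Cy μ σ x) : Sm μ b (ind a) c = kk h.nt x :=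
  Finset.sum_congr rfl fun i _ => by
    rw [← h.wo ⟨b i, b_ne h.nt i⟩ t c hc]
    unfold ind
    simp only [ha]

theorem zval {z : Q} (hz : (z : GF F G) ∈ Z) (x y : {j // μ j ≠ 0}) : ω x z = ω y z := by
  obtain ⟨c, hc⟩ := h.crd z
  rw [h.wo x z c hc, h.wo y z c hc]
  exact h.nt.zc c (fun g hg => hc ▸ ((h.zq _).1 hz).1 g hg) _ _ x.2 y.2

theorem zneg {z : Q} (hz : (z : GF F G) ∈ Z) {x : {j // μ j ≠ 0}} (h1 : ω x z ≠ 1) (y : {j // μ j ≠ 0}) : ω y z = -1 := by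
  obtain ⟨x', e'⟩ := h.opp x
  have h2 := (h.zval hz x' x).symm.trans (e' z)
  exact (h.zval hz y x).trans ((pm (by rwa [eq_inv_iff_mul_eq_one, ← _root_.sq] at h2)).resolve_left h1)

theorem sm_neg {z : Q} (hz : ∀ y, ω y z = -1) {c : X.R → kˣ} (hc : X.τ c = ((z : GF F G) : Y)) (a : kˣ) (c' : X.R → kˣ) :
    Sm μ b (ind a) (c * c') = Sm μ b (ind (-a)) c' :=
  Finset.sum_congr rfl fun i _ => by rw [map_mul, ← h.wo ⟨b i, b_ne h.nt i⟩ z c hc, hz, neg_one_mul, id_neg]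

theorem th_eq {t t' : Q} (e' : ∀ y, ω y t = ω y t') : θ (t : GF F G) = θ (t' : GF F G) := by
  obtain ⟨c, hc⟩ := h.crd t
  obtain ⟨c', hc'⟩ := h.crd t'
  refine Units.ext ?_
  rw [← hc, ← hc', h.nt.dg, h.nt.dg]
  refine congrArg _ (funext fun j => congrArg _ ?_)
  by_cases e'' : μ j = 0
  · rw [e'', chr_zero, chr_zero]
  · rw [← h.wo ⟨j, e''⟩ t c hc, ← h.wo ⟨j, e''⟩ t' c' hc', e']

theorem om_eq {t t' : Q} (e' : θ (t : GF F G) = θ (t' : GF F G)) (y : {j // μ j ≠ 0}) : ω y t = ω y t' := by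
  obtain ⟨c, hc⟩ := h.crd t
  obtain ⟨c', hc'⟩ := h.crd t'
  have h1 := congrArg Units.val e'
  rw [← hc, ← hc', h.nt.dg, h.nt.dg] at h1
  rw [h.wo y t c hc, h.wo y t' c' hc']
  exact Units.ext (congrFun (diagonal_injective h1) y)

theorem z_le : Z ≤ Q := fun z hz => (h.ts z).2
  ⟨X.centralizer_T ▸ ⟨z.2.1, fun s hs => ((h.zq z).1 hz).1 s (X.T_le_G hs)⟩, ((h.zq z).1 hz).2⟩

theorem frame {u : GF F G} {v : Q} (hv : (v : GF F G) = u * u) : ∃ (y : Y) (c : X.R → kˣ), y ∈ G ∧ y⁻¹ * F y ∈ X.NN ∧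
    (u : Y) = y * X.τ c * y⁻¹ ∧ ∀ c', X.τ c' = ((v : GF F G) : Y) → y * X.τ (c ^ 2) * y⁻¹ = X.τ c' := by
  obtain ⟨j, hj⟩ := ((h.ts _).1 v.2).2
  have := X.amb.finite_GF G
  let _ := Fintype.ofFinite (GF F G)
  obtain ⟨-, ζ, w, y, -, h1, h2, h3⟩ := PQ.SS.exists_tor (D := X) Nat.prime_two (two_ne h.nt h.h4) u.2 ⟨j + 1, by
    rw [pow_succ', pow_mul, _root_.sq, ← coe_mul, ← hv, ← coe_pow, hj, coe_one]⟩
  exact ⟨y, _, h1, h2, h3, fun c' e' => by rw [e', hv, coe_mul, h3, map_pow, ← conj_pow, _root_.sq]⟩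

theorem case1 {u t : GF F G} {v z : Q} (hv : (v : GF F G) = u * u) (hz : (z : GF F G) = u * t * u⁻¹ * t⁻¹) (zZ : (z : GF F G) ∈ Z)
    (h1 : ∀ y, ω y z = -1) {x : {j // μ j ≠ 0}} (hx : ∀ y, ω y v = 1 ↔ Cy μ σ y = Cy μ σ x) : False := by
  obtain ⟨y, c, hy, -, h2, h3⟩ := h.frame hv
  obtain ⟨cv, e1⟩ := h.crd v
  obtain ⟨cz, e2⟩ := h.crd z
  have h4 := sm_conj h.nt (h3 cv e1) (id_inv inv_one)
  have h5 : Sm μ b (ind 1) (c ^ 2) = Sm μ b (ind 1) c + Sm μ b (ind (-1)) c := by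
    unfold Sm
    rw [← Finset.sum_add_distrib]
    exact Finset.sum_congr rfl fun i _ => by rw [map_pow, id_sq h.neg_ne]
  have h6 := sm_conj h.nt (g := y⁻¹ * (t : Y)⁻¹ * y) (c := c) (c' := cz * c) (by
    have h6 := ((h.zq _).1 zZ).1
    have h7 : ((z : GF F G) : Y) = u * t * (u : Y)⁻¹ * (t : Y)⁻¹ := congrArg Subtype.val hz
    calc _ = y⁻¹ * ((t : Y)⁻¹ * ((u : Y) * t * (u : Y)⁻¹ * (t : Y)⁻¹)) * t * u * y := by rw [h2]; group
      _ = y⁻¹ * (z : GF F G) * u * y := by rw [← h7, h6 _ (inv_mem t.2.1)]; group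
      _ = _ := by rw [h6 _ (inv_mem hy), map_mul, e2, h2]; group) (id_inv inv_one)
  rw [h.sm_neg h1 e2] at h6
  rw [h.sm_eq e1 hx] at h4
  have := h.odd x
  omega

theorem no_root {u : GF F G} {v : Q} (hv : (v : GF F G) = u * u) (x : {j // μ j ≠ 0}) (h1 : ∀ y, ω y v ^ 2 = -1) :
    4 ∣ (Fintype.card X.R : ℤ) := by
  obtain ⟨y, c, hy, hN, h2, h3⟩ := h.frame hv
  obtain ⟨cv, e1⟩ := h.crd v
  have h4 : ∀ i, chr (μ (b i)) c ^ 4 = -1 := fun i => by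
    have h4 := sm_conj h.nt (g := y) (c := c ^ 4) (c' := cv ^ 2) (by
      rw [map_pow _ cv, ← h3 cv e1, conj_pow, ← map_pow, ← pow_mul]) (id_inv (a := -1) (by simp))
    have h5 : ∀ i, ind (-1) (chr (μ (b i)) (cv ^ 2)) = 1 := fun i => by
      rw [map_pow, ← h.wo ⟨b i, b_ne h.nt i⟩ v cv e1, h1]
      exact if_pos rfl
    have h6 := (Finset.sum_eq_sum_iff_of_le fun i _ => by
      rw [h5]
      unfold ind
      split_ifs <;> decide).1 h4.symm i (Finset.mem_univ i)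
    rw [h5, map_pow] at h6
    by_contra e'
    exact zero_ne_one ((if_neg e').symm.trans h6)
  have h5 : (c ^ 8) ^ 2 = 1 := h.nt.nt.sq fun j => by
    have h5 : ∀ i, chr (μ (b i)) (c ^ 8) = 1 := fun i => by rw [map_pow, pow_mul _ 4 2, h4, neg_one_sq]
    rcases h.nt.cov j with e' | ⟨i, e' | e'⟩
    · rw [e', chr_zero]
    · rw [e', h5]
    · rw [e', chr_neg, h5, inv_one]
  obtain ⟨ζ, hζ⟩ := h.root 4
  obtain ⟨w, rfl⟩ := exists_coch (by norm_num) hζ (c := c) (by rwa [← pow_mul] at h5)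
  obtain ⟨π, hπ⟩ := conj_perm h.nt (y⁻¹ * F y)
  have h6 : ∀ j, μ (π j) ᵥ* X.Wm (X.pr (y⁻¹ * F y)) = μ j := fun j => chr_inj (k := k) fun c => by
    rw [← chr_mon]
    exact hπ _ _ (X.conj_τ (X.rp_pr hN) c) j
  have h7 : coch (X.Wm (X.pr (y⁻¹ * F y)) *ᵥ X.Mx *ᵥ w) ζ = coch w ζ := X.τ_inj (by
    have h7 : F u = u := u.2.2
    rw [h2, map_mul, map_mul, map_inv] at h7
    rw [← mon_coch, ← mon_coch, ← X.conj_τ (X.rp_pr hN), ← X.F_τ]
    calc _ = y⁻¹ * (F y * F (X.τ (coch w ζ)) * (F y)⁻¹) * y := by group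
      _ = _ := by rw [h7]; group)
  obtain ⟨κ, h8⟩ := F2.coch_eq.1 h7
  have h9 : ∀ j, e * (μ (σ j) ⬝ᵥ w) = μ (π j) ⬝ᵥ w + 16 * (μ (π j) ⬝ᵥ κ) := fun j => by
    have := congrArg (μ (π j) ⬝ᵥ ·) h8
    simp only [dotProduct_mulVec, h6, h.nt.fr, smul_dotProduct, dotProduct_add, dotProduct_smul, hζ, smul_eq_mul] at this
    exact this
  have h10 := sum_J h.nt (fun m => (m ⬝ᵥ w) ^ 2) (by simp) fun m => by simp only [neg_dotProduct, neg_sq]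
  have h11 := sum_J h.nt (fun m => (m ⬝ᵥ w + 16 * (m ⬝ᵥ κ)) ^ 2) (by simp) fun m => by simp only [neg_dotProduct]; ring
  rw [← Equiv.sum_comp π] at h11
  rw [← Equiv.sum_comp σ] at h10
  simp only [← h9, mul_pow, ← Finset.mul_sum, h10] at h11
  refine arith (a := fun i => μ (b i) ⬝ᵥ w) (h.e8 x) (fun i => ?_) (h.lat x κ) (by linarith)
  have h12 := h4 i
  rw [chr_coch, ← (half (n := 8) (by norm_num) hζ).1, ← zpow_natCast, ← zpow_natCast, ← _root_.zpow_mul, ← mul_inv_eq_one,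
    ← _root_.zpow_sub, ← orderOf_dvd_iff_zpow_eq_one, hζ] at h12
  change (16 : ℤ) ∣ μ (b i) ⬝ᵥ w * 4 - 8 at h12
  omega

variable {x x' : {j // μ j ≠ 0}} (hc : ∀ y, Cy μ σ y = Cy μ σ x ∨ Cy μ σ y = Cy μ σ x')
include hc

theorem ext2 {s s' : Q} (hs : ω x s ^ 2 = 1) (h1 : ω x s' = ω x s) (h2 : ω x' s' = ω x' s) : θ (s : GF F G) = θ (s' : GF F G) :=
  h.th_eq fun y => (hc y).elim (fun e' => by rw [h.val_pm e' hs, h.val_pm e' (h1 ▸ hs), h1])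
    fun e' => by rw [h.val_pm e' (h.sq' x x' s ▸ hs), h.val_pm e' (h2 ▸ h.sq' x x' s ▸ hs), h2]

theorem case2 (hn : Cy μ σ x ≠ Cy μ σ x') {u : GF F G} {v t z : Q} (hv : (v : GF F G) = u * u) (hu : ∀ t ∈ Q, u * t * u⁻¹ * t⁻¹ ∈ Z)
    (hz : (z : GF F G) = u * t * u⁻¹ * (t : GF F G)⁻¹) (h1 : ω x z ≠ 1) (h2 : ω x v ^ 2 ≠ 1) : False := by
  have zZ : (z : GF F G) ∈ Z := hz ▸ hu t t.2
  have k1 : ∀ s : Q, ω x s ^ 2 ≠ 1 → ω x s ^ 2 = -1 := fun s => (pm (by rw [← pow_mul, h.four])).resolve_left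
  obtain ⟨t₁, h3⟩ := h.exists_t1 x
  let z₁ : Q := ⟨_, h.z_le (hu t₁ t₁.2)⟩
  have h4 : ω x z₁ ≠ 1 := fun e' => by
    have a1 : Commute (θ u) (θ (t₁ : GF F G)) := by
      have a1 := h.th_eq (t := z₁) (t' := 1) fun y => by rw [h.zval (hu t₁ t₁.2) y x, e', map_one]
      rw [coe_one, coe_one, map_one] at a1
      rw [commute_iff_eq, ← mul_inv_eq_one, _root_.mul_inv_rev, ← mul_assoc, ← map_inv, ← map_inv, ← map_mul, ← map_mul, ← map_mul]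
      exact a1
    have a2 : Commute (θ u) (θ (z : GF F G)) := Commute.map (((h.zq _).1 zZ).1 u u.2.1) θ
    have a3 : Commute (θ u) (θ (v : GF F G)) := by
      rw [hv, coe_mul, map_mul]
      exact (Commute.refl _).mul_right (Commute.refl _)
    have a4 := h.zneg zZ h1
    have a5 : ∀ s : Q, ω x s ^ 2 = 1 → Commute (θ u) (θ (s : GF F G)) := fun s hs => by
      rcases pm hs with e1 | e1 <;> rcases pm (h.sq' x x' s ▸ hs) with e2 | e2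
      · rw [h.ext2 hc hs (s' := 1) (by rw [e1, map_one]) (by rw [e2, map_one]), coe_one, coe_one, map_one]
        exact Commute.one_right _
      · rw [h.ext2 hc hs (s' := t₁ * z) (by rw [e1, map_mul, a4, (h3 x).1 rfl, neg_mul_neg, one_mul])
          (by rw [e2, map_mul, a4, (h3 x').2 hn.symm, one_mul]), coe_mul, coe_mul, map_mul]
        exact a1.mul_right a2
      · rwa [h.ext2 hc hs (s' := t₁) (by rw [e1, (h3 x).1 rfl]) (by rw [e2, (h3 x').2 hn.symm])]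
      · rwa [h.ext2 hc hs (s' := z) (by rw [e1, a4]) (by rw [e2, a4])]
    have a6 : Commute (θ u) (θ (t : GF F G)) := by
      by_cases e1 : ω x t ^ 2 = 1
      · exact a5 t e1
      · have a6 := (a5 (t * v) (by rw [map_mul, mul_pow, k1 t e1, k1 v h2, neg_mul_neg, one_mul])).mul_right a3.inv_right
        rwa [coe_mul, coe_mul, map_mul, mul_inv_cancel_right] at a6
    refine h1 ((h.om_eq (t' := 1) ?_ x).trans (map_one _))
    rw [hz, coe_one, coe_one, map_one, coe_mul, coe_mul, coe_mul, coe_inv, coe_inv, map_mul, map_mul, map_mul, map_inv, map_inv, a6.eq]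
    group
  obtain ⟨c₁, e1⟩ := h.crd t₁
  obtain ⟨cz, e2⟩ := h.crd z₁
  have h5 := sm_conj h.nt (g := u) (c := c₁) (c' := cz * c₁) (by
    rw [map_mul, e1, e2]
    exact (inv_mul_cancel_right _ _).symm) (id_inv (a := -1) (by simp))
  rw [h.sm_neg (h.zneg (hu t₁ t₁.2) h4) e2, neg_neg, h.sm_eq e1 (x := x) fun y =>
      ⟨fun e' => by_contra fun e'' => h.neg_ne (e'.symm.trans ((h3 y).2 e'')), (h3 y).1⟩,
    h.sm_eq e1 (x := x') fun y => ⟨fun e' => (hc y).resolve_left fun e'' => h.neg_ne (((h3 y).1 e'').symm.trans e'),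
      fun e' => (h3 y).2 fun e'' => hn (e''.symm.trans e')⟩] at h5
  have h6 : kk h.nt x + kk h.nt x' = Fintype.card X.R := by
    rw [kk, kk, ← Finset.sum_add_distrib, ← Finset.card_univ, Finset.card_eq_sum_ones, Nat.cast_sum]
    refine Finset.sum_congr rfl fun i _ => ?_
    rcases hc ⟨b i, b_ne h.nt i⟩ with e' | e' <;> simp [e', hn, hn.symm]
  have h7 := h.no_root hv x fun y => (h.sq' y x v).trans (k1 v h2)
  have := h.odd x
  omega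

end Hy

end Sq

open Sq in
/-- **[Sq]** -/
theorem boxSq : BoxSq := by
  intro p _ k _ _ _ Y _ N _ _ ρ F G J _ _ X θ μ f e b σ nt Z Q ω h4 zq ts wo x x' hn hc h1 h2 u v hv hu ⟨t, z, hz, h3⟩
  have h : Hy X θ μ f e b σ Z Q ω := ⟨nt, h4, zq, ts, wo, h2, fun y => h2 x y ▸ h1, fun y => (hc y).elim
    (fun e' => ⟨x', e' ▸ hn.symm⟩) fun e' => ⟨x, e' ▸ hn⟩⟩
  have zZ : (z : DL.GF F G) ∈ Z := hz ▸ hu t t.2
  have h5 : ω x v ^ 2 = 1 := by_contra fun e' => h.case2 hc hn hv hu hz h3 e'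
  have h6 : ω x' v ^ 2 = 1 := h.sq' x x' v ▸ h5
  have h7 : ω x' v = ω x v := by
    by_contra e'
    rcases pm h5 with e1 | e1 <;> rcases pm h6 with e2 | e2
    · exact e' (e2.trans e1.symm)
    · exact h.case1 hv hz zZ (h.zneg zZ h3) (x := x) fun y => ⟨fun e'' => (hc y).resolve_right fun e3 =>
        h.neg_ne (e2.symm.trans ((h.val_pm e3 h6).symm.trans e'')), fun e3 => (h.val_pm e3 h5).trans e1⟩
    · exact h.case1 hv hz zZ (h.zneg zZ h3) (x := x') fun y => ⟨fun e'' => (hc y).resolve_left fun e3 =>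
        h.neg_ne (e1.symm.trans ((h.val_pm e3 h5).symm.trans e'')), fun e3 => (h.val_pm e3 h6).trans e2⟩
    · exact e' (e2.trans e1.symm)
  have h8 : ∀ y, ω y v = ω x v := fun y => (hc y).elim (fun e' => h.val_pm e' h5) fun e' => (h.val_pm e' h6).trans h7
  exact fun y y' => (h8 y).trans (h8 y').symm

end Cfsg.Agent.BZ.Tw
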