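import Cfsg.Agent.BZ.L.Tw.WtA

/-!
# BZ, classical groups at the prime two : `boxWt_of` (helper31)
-/

set_option autoImplicit false
set_option linter.unusedSectionVars false
set_option maxHeartbeats 400000

namespace Cfsg.Agent.BZ.Tw

open Cfsg Subgroup Matrix Cfsg.Agent.DL Cfsg.Agent.KM Cfsg.Agent.Nodes.Reps Cfsg.Agent.BZ.Cl Cfsg.Agent.BZ.Two

namespace WtA

variable {p : ℕ} [Fact p.Prime] {k : Type} [Field k] [CharP k p] [IsAlgClosed k] {Y : Type} [Group Y] {N : Type} [Fintype N]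
  [DecidableEq N] {ρ : Y →* GL N k} {F : MulAut Y} {G : Subgroup Y} {J : Type} [Fintype J] [DecidableEq J]
  {X : Datum p ρ F G} {θ : Y →* GL J k} {μ : J → X.R → ℤ} {f : ℕ} {e : ℤ} {b : X.R → J} {σ : Equiv.Perm J}
  {s : ℕ} {H : Subgroup (GF F G)} {w : {j // μ j ≠ 0} → H →* kˣ}

theorem crd (hH : Ts X s H) (a : H) : ∃ c, X.τ c = ((a : GF F G) : Y) ∧ F (X.τ c) = X.τ c ∧ ∃ j, c ^ s ^ j = 1 := by
  obtain ⟨h1, j, h2⟩ := (hH a).1 a.2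
  obtain ⟨c, hc⟩ := (X.mem_T _).1 h1
  exact ⟨c, hc, by rw [hc]; exact (mem_GF.1 (a : GF F G).2).2, j, X.τ_inj (by rw [map_pow, hc, map_one, ← coe_pow, h2, coe_one])⟩

theorem elt (hH : Ts X s H) (hw : Wo X μ w) {c : X.R → kˣ} (h1 : F (X.τ c) = X.τ c) {j : ℕ} (h2 : c ^ s ^ j = 1) :
    ∃ a : H, ∀ x, w x a = chr (μ x) c :=
  ⟨⟨⟨X.τ c, mem_GF.2 ⟨X.T_le_G (X.τ_mem c), h1⟩⟩, (hH _).2 ⟨X.τ_mem c, j, Subtype.ext (by
    rw [coe_pow, ← map_pow, h2, map_one, coe_one])⟩⟩, fun x => hw x _ c rfl⟩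

theorem ord (hH : Ts X s H) (hw : Wo X μ w) (a : H) : ∃ j, ∀ x, w x a ^ s ^ j = 1 :=
  let ⟨c, h1, _, j, h2⟩ := crd hH a
  ⟨j, fun x => by rw [hw x a c h1, ← map_pow, h2, map_one]⟩

theorem all_one {c : X.R → kˣ} (h : ∀ x : {j // μ j ≠ 0}, chr (μ x) c = 1) (j : J) : chr (μ j) c = 1 := by
  by_cases e1 : μ j = 0
  · rw [e1, chr_zero]
  · exact h ⟨j, e1⟩

theorem act (h : Nt2 X θ μ f e b σ) (hH : Ts X s H) (hw : Wo X μ w) {g : GF F G} {j : J} {x : {j // μ j ≠ 0}}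
    (hg : (θ g : Matrix J J k) j x ≠ 0) (a a' : H) (e1 : (a' : GF F G) = g * a * g⁻¹) :
    ∃ c', X.τ c' = ((a' : GF F G) : Y) ∧ chr (μ j) c' = w x a := by
  obtain ⟨c, h1, -⟩ := crd hH a
  obtain ⟨c', h2, -⟩ := crd hH a'
  exact ⟨c', h2, by rw [hw x a c h1]; exact h.nt.conj j x hg (by rw [h1, h2, e1]; rfl)⟩

theorem act0 (h : Nt2 X θ μ f e b σ) (hH : Ts X s H) (hw : Wo X μ w) {g : GF F G} (hn : g ∈ normalizer (H : Set (GF F G))) {j : J}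
    {x : {j // μ j ≠ 0}} (hg : (θ g : Matrix J J k) j x ≠ 0) (hj : μ j = 0) (a : H) : w x a = 1 := by
  obtain ⟨c, -, h1⟩ := act h hH hw hg a ⟨_, (mem_normalizer_iff.1 hn a).1 a.2⟩ rfl
  rw [← h1, hj, chr_zero]

namespace Cf

variable {τ ν : Equiv.Perm {j // μ j ≠ 0}} (c : Cf μ σ τ ν)
include c

theorem bar (hH : Ts X s H) (hw : Wo X μ w) (x : {j // μ j ≠ 0}) : w (ν x) = (w x)⁻¹ := MonoidHom.ext fun a => by
  obtain ⟨t, h1, -⟩ := crd hH a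
  rw [MonoidHom.inv_apply, hw _ a t h1, hw _ a t h1, c.br, chr_neg]

theorem fe (h : Nt2 X θ μ f e b σ) (hH : Ts X s H) (hw : Wo X μ w) (a : H) : Fe τ e fun x => w x a := fun x => by
  obtain ⟨t, h1, h2, -⟩ := crd hH a
  beta_reduce
  rw [hw _ a t h1, hw _ a t h1, c.co1, wt_fix h.fr h2]

theorem same (h : Nt2 X θ μ f e b σ) (hH : Ts X s H) (hw : Wo X μ w) {x y : {j // μ j ≠ 0}} (e1 : τ.SameCycle x y) :
    ∃ n : ℕ, w y = w x ^ e ^ n := by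
  obtain ⟨n, -, rfl⟩ := e1.symm.exists_pow_eq'
  exact ⟨n, MonoidHom.ext fun a => (c.fe h hH hw a).iter n y⟩

/-- the square of an indicator function -/
theorem exists_ind (B : BoxNt) (h : Nt2 X θ μ f e b σ) (hH : Ts X s H) (hw : Wo X μ w) {x : {j // μ j ≠ 0}}
    (hx : ¬ τ.SameCycle x (ν x)) {ζ : kˣ} {j : ℕ} (h1 : ζ ^ s ^ j = 1) (h2 : ζ ^ (e - 1) = 1) :
    ∃ a : H, ∀ y, w y a = ind τ ν x ζ y ^ 2 := by
  obtain ⟨t, k1, k2, k3⟩ := B.sqr X θ μ f e b σ h (fun i => if hi : μ i ≠ 0 then ind τ ν x ζ ⟨i, hi⟩ else 1) (fun i j hi hj => by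
    have hj' : μ j ≠ 0 := by rw [hj]; exact neg_ne_zero.2 hi
    rw [dif_pos hi, dif_pos hj', show (⟨j, hj'⟩ : {j // μ j ≠ 0}) = ν ⟨i, hi⟩ from c.inj _ _ (hj.trans (c.br ⟨i, hi⟩).symm)]
    exact ind_bar c.cm c.bb (fun e1 => absurd e1 hx) _) fun i hi => by
      rw [dif_pos hi, dif_pos ((sig_iff h i).2 hi), show (⟨σ i, (sig_iff h i).2 hi⟩ : {j // μ j ≠ 0}) = τ ⟨i, hi⟩ from
        Subtype.ext (c.co1 ⟨i, hi⟩).symm]
      exact ind_fe h2 _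
  obtain ⟨a, ha⟩ := elt hH hw k1 (k3 (s ^ j) fun i hi => by
    rw [dif_pos hi, ← zpow_natCast]
    exact ind_pow (by rw [zpow_natCast, h1]) _)
  exact ⟨a, fun y => by rw [ha, k2 _ y.2, dif_pos y.2]⟩

end Cf

end WtA

open WtA in
/-- **[Wt]** -/
theorem boxWt_of (B : BoxNt) : BoxWt := by
  intro p _ k _ _ _ Y _ N _ _ ρ F G J _ _ X θ μ f e b σ h r Z P Q π ω h4 hr hre hJ hZ hP hQ hπ hω
  obtain ⟨τ, ν, c⟩ := exists_cf h
  have r2 : r.Coprime 2 := (Nat.coprime_primes hr Nat.prime_two).2 (by omega)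
  have p1 : ∀ {x y}, τ.SameCycle x y → π x = π y := fun e1 => MonoidHom.ext fun a =>
    let ⟨_, hj⟩ := ord hP hπ a
    (c.fe h hP hπ a).cst ((c.fe h hP hπ a).fix hr ((Fintype.card_subtype_le _).trans_lt (by omega)) hre hj) e1
  have p2 : ∀ {x}, π x = (π x)⁻¹ → π x = 1 := fun {x} e1 => MonoidHom.ext fun a => by
    obtain ⟨j, hj⟩ := ord hP hπ a
    have e2 : π x a ^ 2 = 1 := by rw [sq]; exact mul_eq_one_iff_eq_inv.2 (DFunLike.congr_fun e1 a)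
    exact orderOf_eq_one_iff.1 (Nat.eq_one_of_dvd_coprimes (r2.pow_left j) (orderOf_dvd_of_pow_eq_one (hj x))
      (orderOf_dvd_of_pow_eq_one e2))
  have p3 : ∀ {x}, π x ≠ 1 → ¬ τ.SameCycle x (ν x) := fun hx e1 => hx (p2 ((p1 e1).trans (c.bar hP hπ _)))
  have p4 : ∀ {x}, ¬ τ.SameCycle x (ν x) → ∃ a, π x a ≠ 1 ∧ ∀ y, ¬ Rl τ ν x y → π y a = 1 := fun {x} hx => by
    obtain ⟨ζ, hζ⟩ := exists_ord h hr hre 1
    obtain ⟨a, ha⟩ := c.exists_ind B h hP hπ hx (j := 1) (hζ ▸ pow_orderOf_eq_one ζ)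
      (orderOf_dvd_iff_zpow_eq_one.1 (by rwa [hζ, pow_one]))
    refine ⟨a, fun e1 => ?_, fun y hy => by rw [ha, ind_one (fun e1 => hy (Or.inl e1)) fun e1 => hy (Or.inr e1), one_pow]⟩
    rw [ha, ind_of (.refl _ _), ← orderOf_dvd_iff_pow_eq_one, hζ, pow_one] at e1
    exact hr.one_lt.ne' (r2.eq_one_of_dvd e1)
  have p5 : ∀ x y, π x ≠ 1 → (π y = π x ∨ π y = (π x)⁻¹) → Rl τ ν x y := fun x y hx e1 => by
    by_contra e2
    obtain ⟨a, a1, a2⟩ := p4 (p3 hx)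
    have a3 := a2 y e2
    rcases e1 with e1 | e1 <;> rw [e1] at a3
    · exact a1 a3
    · exact a1 (inv_eq_one.1 a3)
  have p6 : ∀ n : ℕ, ∃ u : ℤ, e ^ n = 4 * u + 1 := fun n =>
    let ⟨u, hu⟩ := h4.trans (sub_dvd_pow_sub_pow e 1 n)
    ⟨u, by rw [← hu, one_pow, sub_add_cancel]⟩
  refine ⟨fun x => ⟨ν x, c.cy_iff.2 (Or.inr (.refl _ _)), c.bar hP hπ x, c.bar hQ hω x⟩, fun x y hx => ⟨fun e1 => ?_,
    fun e1 => c.cy_iff.2 (p5 x y hx e1)⟩, fun x y hx e1 => ?_, fun x hx => ?_, fun x hx => ?_, fun x y hx hy => ?_,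
    fun z hz x y => ?_, fun t ht => ?_, fun a ha => ?_, fun g g1 g2 x => ?_⟩
  · exact (c.cy_iff.1 e1).imp (fun e2 => (p1 e2).symm) fun e2 => (p1 e2).symm.trans (c.bar hP hπ x)
  · obtain ⟨n, hn⟩ := c.same h hQ hω ((p5 x y hx (Or.inl e1)).resolve_right fun e2 =>
      hx (p2 (e1.symm.trans ((p1 e2).symm.trans (c.bar hP hπ x)))))
    obtain ⟨u, hu⟩ := p6 n
    exact ⟨u, hu ▸ hn⟩
  · have e1 : τ.SameCycle x (ν x) := not_not.1 fun e1 => let ⟨a, a1, _⟩ := p4 e1; a1 (by rw [hx, MonoidHom.one_apply])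
    have e2 : ω x ^ 2 = 1 := MonoidHom.ext fun a =>
      let ⟨_, hj⟩ := ord hQ hω a
      (c.fe h hQ hω a).bad_two h4 (hj x) e1 (DFunLike.congr_fun (c.bar hQ hω x) a)
    refine ⟨e2, fun y hy => ?_⟩
    obtain ⟨n, hn⟩ := c.same h hQ hω ((c.cy_iff.1 hy).elim id e1.trans)
    obtain ⟨u, hu⟩ := p6 n
    refine MonoidHom.ext fun a => ?_
    rw [hn, hu, MonoidHom.zpow_apply, show 4 * u + 1 = (2 : ℕ) * (2 * u) + 1 by push_cast; ring, _root_.zpow_add, _root_.zpow_mul,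
      zpow_natCast, show ω x a ^ 2 = 1 from DFunLike.congr_fun e2 a, _root_.one_zpow, one_mul, zpow_one]
  · obtain ⟨ζ, hζ⟩ := exists_ord h Nat.prime_two ((show (2 : ℤ) ∣ 4 by norm_num).trans h4) 2
    obtain ⟨a, ha⟩ := c.exists_ind B h hQ hω (p3 hx) (j := 2) (hζ ▸ pow_orderOf_eq_one ζ)
      (orderOf_dvd_iff_zpow_eq_one.1 (by rwa [hζ]))
    refine ⟨a, fun e1 => ?_, fun y hy => by
      rw [ha, ind_one (fun e1 => hy (c.cy_iff.2 (Or.inl e1))) fun e1 => hy (c.cy_iff.2 (Or.inr e1)), one_pow]⟩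
    rw [ha, ind_of (.refl _ _), ← orderOf_dvd_iff_pow_eq_one, hζ] at e1
    exact absurd e1 (by decide)
  · obtain ⟨t, n, t1, t2, t3, t4, t5⟩ := c.norm h h4 (p3 hx) fun e1 => hy (c.cy_iff.2 e1)
    obtain ⟨a, ha⟩ := elt hQ hω t1 t2
    exact ⟨a, by rwa [ha], by rwa [ha], fun z z1 z2 => (ha z).trans (t5 z (fun e1 => z1 (c.cy_iff.2 e1)) fun e1 => z2 (c.cy_iff.2 e1))⟩
  · obtain ⟨t, t1, -⟩ := crd hQ z
    rw [hω x z t t1, hω y z t t1]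
    exact h.zc t (fun g hg => by rw [t1]; exact ((hZ z).1 hz).1 g hg) x y x.2 y.2
  · obtain ⟨u, t1, -⟩ := crd hQ t
    refine (hZ t).2 ⟨h.ker _ (t : GF F G).2.1 (Units.ext ?_), ((hQ t).1 t.2).2⟩
    rw [← t1, h.dg, Units.val_one, ← diagonal_one]
    exact congrArg _ (funext fun j => by rw [all_one fun x => (hω x t u t1).symm.trans (ht x), Units.val_one])
  · obtain ⟨u, t1, -, j, t2⟩ := crd hP a
    have t3 := h.nt.sq (all_one fun x => (hπ x a u t1).symm.trans (ha x))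
    rw [orderOf_eq_one_iff.1 (Nat.eq_one_of_dvd_coprimes (r2.pow_left j) (orderOf_dvd_of_pow_eq_one t2)
      (orderOf_dvd_of_pow_eq_one t3)), map_one] at t1
    exact Subtype.ext (Subtype.ext t1.symm)
  · obtain ⟨j, hj⟩ : ∃ j, (θ g : Matrix J J k) j x ≠ 0 := by simpa [Cl.mt] using col_ne (ρ := θ) (h := 1) g x
    by_cases e1 : μ j = 0
    · exact ⟨x, fun a a' _ => (act0 h hP hπ g1 hj e1 a').trans (act0 h hP hπ g1 hj e1 a).symm,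
        fun a a' _ => (act0 h hQ hω g2 hj e1 a').trans (act0 h hQ hω g2 hj e1 a).symm⟩
    · exact ⟨⟨j, e1⟩, fun a a' e2 => let ⟨u, u1, u2⟩ := act h hP hπ hj a a' e2; (hπ _ a' u u1).trans u2,
        fun a a' e2 => let ⟨u, u1, u2⟩ := act h hQ hω hj a a' e2; (hω _ a' u u1).trans u2⟩

end Cfsg.Agent.BZ.Tw
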