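import Cfsg.Agent.BZ.L.GlueP
import Cfsg.Agent.BZ.L.Cl.Dat
import Cfsg.Agent.BZ.E2.Defs

/-!
# BZ, symplectic and orthogonal groups at the prime two: definitions and boxes (helper7)

* pure part : `Wt` (the joint weights of `P` and `Q`), `M2`, `Geo`, `Sq`, `BoxCore`;
* data : `Nt2`, `thc`, `Cy`, `Ts`, `Zq`, `Wo`; boxes `BoxNt`, `BoxWt`, `BoxGeo`, `BoxSq`, `BoxDat`.
-/

set_option autoImplicit false
set_option linter.unusedSectionVars false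

namespace Cfsg.Agent.BZ.Tw

open Cfsg Subgroup Matrix Cfsg.Agent.DL Cfsg.Agent.KM Cfsg.Agent.BZ.L Cfsg.Agent.Nodes.Reps
open Cfsg.Agent.TO.X.Cn (Pi1)

section pure

variable {K : Type} [Group K] {A : Type} [CommGroup A] {I C : Type}

/-- the joint weights; `cy x` is the unsigned cycle of `x`, the cycle is positive iff `π x ≠ 1` -/
structure Wt (Z P Q : Subgroup K) (cy : I → C) (π : I → P →* A) (ω : I → Q →* A) : Prop where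
  neg : ∀ x, ∃ y, cy y = cy x ∧ π y = (π x)⁻¹ ∧ ω y = (ω x)⁻¹
  cyp : ∀ x y, π x ≠ 1 → (cy y = cy x ↔ π y = π x ∨ π y = (π x)⁻¹)
  gal : ∀ x y, π x ≠ 1 → π y = π x → ∃ n : ℤ, ω y = ω x ^ (4 * n + 1)
  ngt : ∀ x, π x = 1 → ω x ^ 2 = 1 ∧ ∀ y, cy y = cy x → ω y = ω x
  g1 : ∀ x, π x ≠ 1 → ∃ t, ω x t ≠ 1 ∧ ∀ y, cy y ≠ cy x → ω y t = 1
  g2 : ∀ x y, π x ≠ 1 → cy y ≠ cy x → ∃ t, ω x t ^ 2 ≠ 1 ∧ ω y t ≠ 1 ∧ ∀ z, cy z ≠ cy x → cy z ≠ cy y → ω z t = 1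
  zs : ∀ z : Q, (z : K) ∈ Z → ∀ x y, ω x z = ω y z
  ker : ∀ t : Q, (∀ x, ω x t = 1) → (t : K) ∈ Z
  pker : ∀ a : P, (∀ x, π x a = 1) → a = 1
  act : ∀ g ∈ normalizer (P : Set K), g ∈ normalizer (Q : Set K) → ∀ x, ∃ y,
    (∀ a a' : P, (a' : K) = g * a * g⁻¹ → π y a' = π x a) ∧ ∀ t t' : Q, (t' : K) = g * t * g⁻¹ → ω y t' = ω x t

/-- the pair `u`, `z` has two different weights of order four -/
structure Pr {Q : Subgroup K} (ω : I → Q →* A) (u : K) (z v : Q) (x x' : I) : Prop where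
  sq : (v : K) = u * u
  cm : u * z = z * u
  o1 : ω x ^ 2 = 1
  o2 : ω x' ^ 2 = 1
  z1 : ω x z ≠ 1
  z2 : ω x' z = 1
  v1 : ω x v ≠ 1
  v2 : ω x' v ≠ 1

/-- such a pair in `D` forces `P` to be trivial or not cyclic -/
def M2 (D P Q : Subgroup K) (π : I → P →* A) (ω : I → Q →* A) : Prop :=
  ∀ u ∈ D, ∀ (z v : Q) (x x' : I), Pr ω u z v x x' → ∀ x₀, π x₀ ≠ 1 → ¬ Function.Injective (π x₀)

/-- the geometry behind `M2` -/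
def Geo (r : ℕ) (P Q : Subgroup K) (π : I → P →* A) (ω : I → Q →* A) : Prop :=
  ∀ (u : K) (z v : Q) (x x' : I), Pr ω u z v x x' → ∀ x₀, π x₀ ≠ 1 → Function.Injective (π x₀) → ∃ R : Subgroup K, IsPGroup r R ∧
    R ≤ centralizer ({u, (z : K)} : Set K) ∧ (∀ y ∈ centralizer ({u, (z : K)} : Set K), ¬ 2 ∣ orderOf y → y ∈ centralizer (R : Set K)) ∧
    Nat.card P < Nat.card R

/-- two cycles : the squares are scalars -/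
def Sq (Z Q : Subgroup K) (cy : I → C) (ω : I → Q →* A) : Prop :=
  ∀ a b, cy a ≠ cy b → (∀ x, cy x = cy a ∨ cy x = cy b) → ω a ^ 2 ≠ 1 → (∀ x y, ω x ^ 2 = ω y ^ 2) → ∀ (u : K) (v : Q), (v : K) = u * u →
    (∀ t ∈ Q, u * t * u⁻¹ * t⁻¹ ∈ Z) → (∃ t z : Q, (z : K) = u * t * u⁻¹ * (t : K)⁻¹ ∧ ω a z ≠ 1) → ∀ x y, ω x v = ω y v

end pure

/-- **the pure theorem** -/
def BoxCore : Prop :=
  ∀ {K : Type} [Group K] [Finite K] {A : Type} [CommGroup A] {I C : Type} {Z D P Q S : Subgroup K} {cy : I → C} {π : I → P →* A}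
    {ω : I → Q →* A} (ι : A →* ℂˣ), (∀ (a : A) (j : ℕ), a ^ 2 ^ j = 1 → ι a = 1 → a = 1) → Z ≤ center K →
    Q ≤ centralizer (Q : Set K) → Ou 2 Z D P Q S → Wt Z P Q cy π ω → M2 D P Q π ω → Sq Z Q cy ω → ⁅D, D⁆ ≤ Z

section Dat

variable {p : ℕ} [Fact p.Prime] {k : Type} [Field k] [CharP k p] [IsAlgClosed k] {Y : Type} [Group Y] {N : Type} [Fintype N]
  [DecidableEq N] {ρ : Y →* GL N k} {F : MulAut Y} {G : Subgroup Y} {J : Type} [Fintype J] [DecidableEq J]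

/-- a natural representation of a simply connected datum of type `B`, `C` or `D`; the cocharacter lattice is the full or the even lattice -/
structure Nt2 (X : Datum p ρ F G) (θ : Y →* GL J k) (μ : J → X.R → ℤ) (f : ℕ) (e : ℤ) (b : X.R → J) (σ : Equiv.Perm J) : Prop where
  f0 : 0 < f
  eq : e = (p ^ f : ℕ) ∨ e = -((p ^ f : ℕ) : ℤ)
  ker : ∀ g ∈ G, θ g = 1 → ∀ y ∈ G, y * g = g * y
  dg : ∀ c, (θ (X.τ c) : Matrix J J k) = diagonal fun j => ((chr (μ j) c : kˣ) : k)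
  fr : ∀ j, μ j ᵥ* X.Mx = e • μ (σ j)
  bas : ∃ V : Matrix X.R X.R ℤ, (Matrix.of fun i => μ (b i)) * V = (2 : ℤ) • 1
  cov : ∀ j, μ j = 0 ∨ ∃ i, μ j = μ (b i) ∨ μ j = -μ (b i)
  neg : ∀ j, ∃ j', μ j' = -μ j
  inj : ∀ i j, μ i ≠ 0 → μ i = μ j → i = j
  zc : ∀ c, (∀ g ∈ G, g * X.τ c = X.τ c * g) → ∀ i j, μ i ≠ 0 → μ j ≠ 0 → chr (μ i) c = chr (μ j) c
  ev : ∀ w : X.R → ℤ, Even (∑ i, w i) → ∃ v, ∀ i, μ (b i) ⬝ᵥ v = w i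
  lat : (∀ w : X.R → ℤ, ∃ v, ∀ i, μ (b i) ⬝ᵥ v = w i) ∨ ∀ v, Even (∑ i, μ (b i) ⬝ᵥ v)
  pi1 : Pi1 X 1

theorem Nt2.nt {X : Datum p ρ F G} {θ : Y →* GL J k} {μ : J → X.R → ℤ} {f : ℕ} {e : ℤ} {b : X.R → J} {σ : Equiv.Perm J}
    (h : Nt2 X θ μ f e b σ) : Cl.Nt X θ μ f e :=
  ⟨h.f0, h.eq, h.ker, h.dg, ⟨σ, h.fr⟩, b, h.bas.imp fun _ hV => ⟨hV, h.cov⟩⟩

/-- the representation in the frame of `y` -/
def thc (θ : Y →* GL J k) (y : Y) : Y →* GL J k := (MulAut.conj (θ y)⁻¹).toMonoidHom.comp θ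

/-- the unsigned cycle -/
def Cy {R : Type} (μ : J → R → ℤ) (σ : Equiv.Perm J) (x : {j // μ j ≠ 0}) : Set (R → ℤ) :=
  {w | ∃ i : ℕ, w = μ ((σ ^ i) x) ∨ w = -μ ((σ ^ i) x)}

/-- `H` is the `s`-part of the group of the fixed points in the torus -/
def Ts (X : Datum p ρ F G) (s : ℕ) (H : Subgroup (GF F G)) : Prop := ∀ g, g ∈ H ↔ (g : Y) ∈ X.T ∧ ∃ j, g ^ s ^ j = 1

/-- `Z` is the group of the central two-elements -/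
def Zq (F : MulAut Y) (G : Subgroup Y) (Z : Subgroup (GF F G)) : Prop :=
  ∀ g, g ∈ Z ↔ (∀ y ∈ G, y * g = g * y) ∧ ∃ j, g ^ 2 ^ j = 1

/-- `w` is the family of the restrictions of the non-zero weights -/
def Wo (X : Datum p ρ F G) (μ : J → X.R → ℤ) {H : Subgroup (GF F G)} (w : {j // μ j ≠ 0} → H →* kˣ) : Prop :=
  ∀ j (a : H) c, X.τ c = ((a : GF F G) : Y) → w j a = chr (μ j) c

end Dat

/-- a statement for all data with a natural representation -/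
def AllN (P : ∀ {p : ℕ} [Fact p.Prime] {k : Type} [Field k] [CharP k p] [IsAlgClosed k] {Y : Type} [Group Y] {N : Type} [Fintype N]
    [DecidableEq N] {ρ : Y →* GL N k} {F : MulAut Y} {G : Subgroup Y} {J : Type} [Fintype J] [DecidableEq J] (X : Datum p ρ F G)
    (_ : Y →* GL J k) (_ : J → X.R → ℤ) (_ : ℕ) (_ : ℤ) (_ : X.R → J) (_ : Equiv.Perm J), Prop) : Prop :=
  ∀ {p : ℕ} [Fact p.Prime] {k : Type} [Field k] [CharP k p] [IsAlgClosed k] {Y : Type} [Group Y] {N : Type} [Fintype N]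
    [DecidableEq N] {ρ : Y →* GL N k} {F : MulAut Y} {G : Subgroup Y} {J : Type} [Fintype J] [DecidableEq J] (X : Datum p ρ F G)
    (θ : Y →* GL J k) (μ : J → X.R → ℤ) (f : ℕ) (e : ℤ) (b : X.R → J) (σ : Equiv.Perm J), Nt2 X θ μ f e b σ → P X θ μ f e b σ

/-- [Nt] closure properties; the squares of the equivariant functions are realised -/
structure BoxNt : Prop where
  conj : AllN fun {_} _ _ _ _ _ _ _ _ _ _ _ {F} {G} _ _ _ X θ μ f e b _ => ∀ y (hy : y ∈ G) (hN : y⁻¹ * F y ∈ X.NN),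
    ∃ σ', Nt2 (X.conj hy hN) (thc θ y) μ f e b σ'
  pow : AllN fun X θ μ f e b σ => ∀ m (hm : 0 < m), Nt2 (X.pow hm) θ μ (f * m) (e ^ m) b (σ ^ m)
  neg : AllN fun X θ μ f e b _ => ∃ σ', Nt2 X θ μ f (-e) b σ'
  sqr : AllN fun {_} _ {k} _ _ _ _ _ _ _ _ _ {F} _ {J} _ _ X _ μ _ e _ σ => ∀ s : J → kˣ,
    (∀ i j, μ i ≠ 0 → μ j = -μ i → s j = (s i)⁻¹) → (∀ j, μ j ≠ 0 → s j = s (σ j) ^ e) → ∃ c, F (X.τ c) = X.τ c ∧
      (∀ j, μ j ≠ 0 → chr (μ j) c = s j ^ 2) ∧ ∀ t : ℕ, (∀ j, μ j ≠ 0 → s j ^ t = 1) → c ^ t = 1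

/-- [Wt] -/
def BoxWt : Prop := AllN fun {_} _ {k} _ _ _ _ _ _ _ _ _ {F} {G} {J} _ _ X _ μ _ e _ σ => ∀ (r : ℕ) (Z P Q : Subgroup (GF F G))
  (π : {j // μ j ≠ 0} → P →* kˣ) (ω : {j // μ j ≠ 0} → Q →* kˣ), 4 ∣ e - 1 → r.Prime → (r : ℤ) ∣ e - 1 → Fintype.card J + 2 < r →
    Zq F G Z → Ts X r P → Ts X 2 Q → Wo X μ π → Wo X μ ω → Wt Z P Q (Cy μ σ) π ω

/-- [Geo] -/
def BoxGeo : Prop := AllN fun {_} _ {k} _ _ _ _ _ _ _ _ _ {F} {G} {J} _ _ X _ μ _ e _ _ => ∀ (r : ℕ) (P Q : Subgroup (GF F G))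
  (π : {j // μ j ≠ 0} → P →* kˣ) (ω : {j // μ j ≠ 0} → Q →* kˣ), 4 ∣ e - 1 → r.Prime → (r : ℤ) ∣ e - 1 → Fintype.card J + 2 < r →
    Ts X r P → Ts X 2 Q → Wo X μ π → Wo X μ ω → Geo r P Q π ω

/-- [Sq] -/
def BoxSq : Prop := AllN fun {_} _ {k} _ _ _ _ _ _ _ _ _ {F} {G} _ _ _ X _ μ _ e _ σ => ∀ (Z Q : Subgroup (GF F G))
  (ω : {j // μ j ≠ 0} → Q →* kˣ), 4 ∣ e - 1 → Zq F G Z → Ts X 2 Q → Wo X μ ω → Sq Z Q (Cy μ σ) ω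

/-- **[Dat]** the theorem for a datum -/
def BoxDat : Prop := AllN fun {p} _ _ _ _ _ _ _ _ _ _ _ _ _ _ _ _ X _ _ _ _ _ _ => p ≠ 2 → X.QS → E2.Bz2 X

end Cfsg.Agent.BZ.Tw
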