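import Cfsg.Agent.BZ.L.Tw.Defs

/-!
# BZ / L / Tw : the box `Nt` (helper10)
-/

set_option autoImplicit false
set_option linter.unusedSectionVars false

namespace Cfsg.Agent.BZ.Tw

open Cfsg Subgroup Matrix Cfsg.Agent.DL Cfsg.Agent.KM Cfsg.Agent.Nodes.Reps

namespace NtA

variable {p : ℕ} [hp : Fact p.Prime] {k : Type} [Field k] [CharP k p] [IsAlgClosed k] {Y : Type} [Group Y] {N : Type} [Fintype N]
  [DecidableEq N] {ρ : Y →* GL N k} {F : MulAut Y} {G : Subgroup Y} {J : Type} [Fintype J] [DecidableEq J]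
  {X : Datum p ρ F G} {θ : Y →* GL J k} {μ : J → X.R → ℤ} {f : ℕ} {e : ℤ} {b : X.R → J} {σ : Equiv.Perm J}
  (h : Nt2 X θ μ f e b σ)
include h

theorem exists_perm {L : (X.R → ℤ) → X.R → ℤ} (hL : Function.Injective L) (h0 : L 0 = 0) (h1 : ∀ j, ∃ j', L (μ j) = μ j') :
    ∃ τ : Equiv.Perm J, ∀ j, L (μ j) = μ (τ j) := by
  have h2 : ∀ j, ∃ j', L (μ j) = μ j' ∧ (μ j = 0 → j' = j) := fun j => by
    by_cases e : μ j = 0
    · exact ⟨j, by rw [e, h0], fun _ => rfl⟩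
    · exact (h1 j).imp fun _ e' => ⟨e', fun e'' => absurd e'' e⟩
  choose s h3 h4 using h2
  refine ⟨Equiv.ofBijective s (Finite.injective_iff_bijective.1 fun a c e => ?_), h3⟩
  have h5 : μ a = μ c := hL (by rw [h3, h3, e])
  by_cases h6 : μ a = 0
  · rw [← h4 a h6, e, h4 c (h5 ▸ h6)]
  · exact h.inj a c h6 h5

theorem wm_perm (w : X.W) : ∃ τ : Equiv.Perm J, ∀ j, μ j ᵥ* X.Wm w = μ (τ j) := by
  obtain ⟨n, hn, -⟩ := X.exists_rp w
  refine exists_perm h (L := (· ᵥ* X.Wm w)) (fun a c e => ?_) (zero_vecMul _) fun j => ?_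
  · simpa only [vecMul_vecMul, ← X.Wm_mul, mul_inv_cancel, X.Wm_one, vecMul_one] using congrArg (· ᵥ* X.Wm w⁻¹) e
  · obtain ⟨j', hj⟩ : ∃ j', (θ n : Matrix J J k) j j' ≠ 0 := by
      by_contra! e
      have := congrFun (congrFun (θ n).mul_inv j) j
      rw [one_apply_eq, mul_apply] at this
      simp only [e, zero_mul, Finset.sum_const_zero, zero_ne_one] at this
    exact ⟨j', chr_inj (k := k) fun c => by rw [← chr_mon]; exact h.nt.conj j j' hj (X.conj_τ hn c)⟩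

theorem conj {y : Y} (hy : y ∈ G) (hN : y⁻¹ * F y ∈ X.NN) : ∃ σ', Nt2 (X.conj hy hN) (thc θ y) μ f e b σ' := by
  obtain ⟨τ, hτ⟩ := wm_perm h (X.pr (y⁻¹ * F y))
  have h1 : ∀ g, thc θ y g = θ (y⁻¹ * g * y) := fun g => by simp [thc]
  refine ⟨σ * τ, h.f0, h.eq, fun g hg e z hz => ?_, fun c => ?_, fun j => ?_, h.bas, h.cov, h.neg, h.inj, fun c hc => h.zc c fun g hg => ?_,
    h.ev, h.lat, h.pi1.conj hy hN⟩
  · have h2 := h.ker _ (mul_mem (mul_mem (inv_mem hy) hg) hy) (h1 g ▸ e) _ (mul_mem (mul_mem (inv_mem hy) hz) hy)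
    calc z * g = y * (y⁻¹ * z * y * (y⁻¹ * g * y)) * y⁻¹ := by group
      _ = _ := by rw [h2]; group
  · rw [← h.dg, h1, X.conj_tau, show y⁻¹ * (y * X.τ c * y⁻¹) * y = X.τ c by group]
  · rw [X.conj_Mx, ← vecMul_vecMul, hτ, h.fr, Equiv.Perm.mul_apply]
  · have h2 := hc _ (mul_mem (mul_mem hy hg) (inv_mem hy))
    rw [X.conj_tau] at h2
    calc _ = y⁻¹ * (y * g * y⁻¹ * (y * X.τ c * y⁻¹)) * y := by group
      _ = _ := by rw [h2]; group

theorem fr_pow (j : J) (m : ℕ) : μ j ᵥ* X.Mx ^ m = e ^ m • μ ((σ ^ m) j) := by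
  induction m with
  | zero => simp
  | succ m ih => rw [pow_succ, ← vecMul_vecMul, ih, smul_vecMul, h.fr, smul_smul, pow_succ, pow_succ', Equiv.Perm.mul_apply]

theorem pow {m : ℕ} (hm : 0 < m) : Nt2 (X.pow hm) θ μ (f * m) (e ^ m) b (σ ^ m) :=
  ⟨(h.nt.pow hm).f0, (h.nt.pow hm).eq, h.ker, h.dg, fun j => fr_pow h j m, h.bas, h.cov, h.neg, h.inj, h.zc, h.ev, h.lat, h.pi1⟩

theorem neg : ∃ σ', Nt2 X θ μ f (-e) b σ' := by
  obtain ⟨τ, hτ⟩ := exists_perm h neg_injective neg_zero fun j => (h.neg j).imp fun _ => Eq.symm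
  exact ⟨τ * σ, h.f0, h.eq.symm.imp (fun e1 => by rw [e1, neg_neg]) fun e1 => by rw [e1], h.ker, h.dg,
    fun j => by rw [h.fr, Equiv.Perm.mul_apply, ← hτ, neg_smul_neg], h.bas, h.cov, h.neg, h.inj, h.zc, h.ev, h.lat, h.pi1⟩

theorem sig_ne {j : J} (hj : μ j ≠ 0) : μ (σ j) ≠ 0 := fun e1 => by
  have h0 : e ≠ 0 := by rcases h.eq with rfl | rfl <;> simp [hp.out.ne_zero]
  have h1 := fr_pow h (σ j) (orderOf σ - 1)
  rw [e1, zero_vecMul, ← Equiv.Perm.mul_apply, ← pow_succ, Nat.sub_add_cancel (orderOf_pos σ), pow_orderOf_eq_one] at h1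
  exact hj ((smul_eq_zero.1 h1.symm).resolve_left (pow_ne_zero _ h0))

theorem sqr (s : J → kˣ) (h1 : ∀ i j, μ i ≠ 0 → μ j = -μ i → s j = (s i)⁻¹) (h2 : ∀ j, μ j ≠ 0 → s j = s (σ j) ^ e) :
    ∃ c, F (X.τ c) = X.τ c ∧ (∀ j, μ j ≠ 0 → chr (μ j) c = s j ^ 2) ∧ ∀ t : ℕ, (∀ j, μ j ≠ 0 → s j ^ t = 1) → c ^ t = 1 := by
  obtain ⟨V, hV⟩ := h.bas
  choose z hz using fun i => exists_zpow_eq (k := k) two_ne_zero (s (b i))
  have h3 : ∀ i, μ (b i) ≠ 0 := fun i e1 => by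
    have := congrFun (congrFun hV i) i
    simp [mul_apply, e1] at this
  have h4 : ∀ i, chr (μ (b i)) (mon V z) = s (b i) := fun i => by
    have h5 := congrFun (mon_mul (Matrix.of fun i => μ (b i)) V z) i
    rw [hV, mon_zsmul, mon_one, Pi.pow_apply, hz] at h5
    exact h5.symm
  have h5 : ∀ j, μ j ≠ 0 → chr (μ j) (mon V z) = s j := fun j hj => by
    obtain ⟨i, e1 | e1⟩ := (h.cov j).resolve_left hj
    · rw [h.inj _ _ hj e1, h4]
    · rw [e1, chr_neg, h4, h1 _ _ (h3 i) e1]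
  refine ⟨mon V z ^ 2, ?_, fun j hj => by rw [map_pow, h5 j hj], fun t ht => ?_⟩
  · have h6 := h.nt.sq (c := mon X.Mx (mon V z) / mon V z) fun j => by
      by_cases hj : μ j = 0
      · rw [hj, chr_zero]
      · rw [map_div, chr_mon, h.fr, chr_zsmul, h5 _ (sig_ne h hj), h5 j hj, ← h2 j hj, div_self']
    rw [div_pow, div_eq_one] at h6
    rw [X.F_τ, map_pow, h6]
  · rw [← map_pow, ← map_pow, show (z ^ 2) ^ t = 1 from funext fun i => by
      rw [Pi.pow_apply, Pi.pow_apply, ← zpow_natCast (z i), Nat.cast_two, hz, ht _ (h3 i), Pi.one_apply], map_one]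

end NtA

theorem boxNt : BoxNt where
  conj _ _ _ _ _ _ _ h _ hy hN := NtA.conj h hy hN
  pow _ _ _ _ _ _ _ h _ hm := NtA.pow h hm
  neg _ _ _ _ _ _ _ h := NtA.neg h
  sqr _ _ _ _ _ _ _ h := NtA.sqr h

end Cfsg.Agent.BZ.Tw
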