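import Cfsg.Agent.BZ.L.Tw.Defs
import Cfsg.Agent.BZ.L.F2.Grp

/-!
# BZ / Tw : tools for the pure theorem (helper7)

`ca` : the action on the characters; `Cx` : the context; `Lf` : lifts of the elements of `D`; `Cx.ng`, `Cx.ol`, `Cx.dual`.
-/

set_option autoImplicit false
set_option linter.unusedSectionVars false

namespace Cfsg.Agent.BZ.Tw.Co

open Subgroup Cfsg.Agent.BZ.L Cfsg.Agent.BZ.Lab.Cor

theorem o2 {G : Type} [Group G] {a : G} (h : ∃ j, a ^ 2 ^ j = 1) {n : ℤ} (e : a ^ (2 * n + 1) = 1) : a = 1 := by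
  obtain ⟨j, hj⟩ := h
  obtain ⟨i, -, hi⟩ := (Nat.dvd_prime_pow Nat.prime_two).1 (orderOf_dvd_of_pow_eq_one hj)
  have h1 := orderOf_dvd_iff_zpow_eq_one.2 e
  rcases i with _ | i
  · exact orderOf_eq_one_iff.1 hi
  · rw [hi, pow_succ, Nat.cast_mul] at h1
    have := (dvd_mul_left _ _).trans h1
    omega

theorem sq2 {G : Type} [Group G] {a : G} (h : ∃ j, a ^ 2 ^ j = 1) (n : ℕ) : ∃ j, (a ^ n) ^ 2 ^ j = 1 :=
  h.imp fun j e => by rw [← pow_mul, mul_comm, pow_mul, e, one_pow]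

variable {K : Type} [Group K] [Finite K] {A : Type} [CommGroup A] {I C : Type} {Z D P Q S H : Subgroup K}

/-- the action on the characters -/
def ca (hS : S ≤ normalizer (H : Set K)) (A : Type) [CommGroup A] : S →* MulAut (H →* A) where
  toFun g :=
    { toFun θ := θ.comp (cn hS g⁻¹).toMonoidHom
      invFun θ := θ.comp (cn hS g).toMonoidHom
      left_inv θ := MonoidHom.ext fun y => show θ (cn hS g⁻¹ (cn hS g y)) = θ y by simp
      right_inv θ := MonoidHom.ext fun y => show θ (cn hS g (cn hS g⁻¹ y)) = θ y by simp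
      map_mul' _ _ := rfl }
  map_one' := MulEquiv.ext fun θ => MonoidHom.ext fun y => show θ (cn hS 1⁻¹ y) = θ y by simp
  map_mul' g h := MulEquiv.ext fun θ => MonoidHom.ext fun y => show θ (cn hS (g * h)⁻¹ y) = θ (cn hS h⁻¹ (cn hS g⁻¹ y)) by simp

theorem ca_iff (hS : S ≤ normalizer (H : Set K)) (g : S) (θ θ' : H →* A) :
    ca hS A g θ = θ' ↔ ∀ y y' : H, (y' : K) = g * y * (g : K)⁻¹ → θ' y' = θ y :=
  (DFunLike.ext_iff).trans (tr_iff hS g θ θ').symm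

theorem ca_val (hS : S ≤ normalizer (H : Set K)) (g : S) (θ : H →* A) {y y' : H} (e : (y' : K) = g * y * (g : K)⁻¹) :
    ca hS A g θ y' = θ y := (ca_iff hS g θ _).1 rfl y y' e

theorem ca_cen (hS : S ≤ normalizer (H : Set K)) {g : S} (hg : (g : K) ∈ centralizer (H : Set K)) (θ : H →* A) : ca hS A g θ = θ :=
  (ca_iff hS g θ θ).2 fun y y' e => congrArg θ (Subtype.ext (by rw [e, ← show (y : K) * g = g * y from hg y y.2, mul_inv_cancel_right]))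

theorem ca_mul (hS : S ≤ normalizer (H : Set K)) (g h : S) (θ : H →* A) : ca hS A (g * h) θ = ca hS A g (ca hS A h θ) := by
  rw [map_mul, MulAut.mul_apply]

theorem ab_of_le (hQ : Q ≤ centralizer (Q : Set K)) (h : D ≤ Q) : ⁅D, D⁆ ≤ Z :=
  commutator_le.2 fun u hu v hv => by
    rw [commutatorElement_eq_one_iff_mul_comm.2 (hQ (h hv) u (h hu))]
    exact one_mem _

theorem ab_of_two (h1 : ∀ u ∈ D, ∀ t ∈ Q, u * t * u⁻¹ * t⁻¹ ∈ Z) (h2 : ∀ u ∈ D, ∀ v ∈ D, u ∉ Q → v ∉ Q → u * v ∈ Q) : ⁅D, D⁆ ≤ Z :=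
  commutator_le.2 fun u hu v hv => by
    rw [commutatorElement_def]
    by_cases e1 : v ∈ Q
    · exact h1 u hu v e1
    by_cases e2 : u ∈ Q
    · simpa [mul_assoc] using inv_mem (h1 v hv u e2)
    · simpa [mul_assoc] using inv_mem (h1 u⁻¹ (inv_mem hu) _ (h2 u hu v hv e2 e1))

theorem ab_of_sq (h : ∀ u ∈ D, u * u ∈ Z) : ⁅D, D⁆ ≤ Z :=
  commutator_le.2 fun u hu v hv => by
    have h1 := mul_mem (mul_mem (h u hu) (h _ (mul_mem (inv_mem hu) hv))) (h _ (inv_mem hv))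
    rwa [show u * u * (u⁻¹ * v * (u⁻¹ * v)) * (v⁻¹ * v⁻¹) = u * v * u⁻¹ * v⁻¹ by group] at h1

/-- the stabilisers of the admissible characters have odd index -/
theorem key {ι : A →* ℂˣ} (hι : ∀ (a : A) (j : ℕ), a ^ 2 ^ j = 1 → ι a = 1 → a = 1) (R : Res 2 Z D P Q S) {φ : Q →* A}
    (h1 : ∀ z : Q, (z : K) ∈ Z → φ z = 1) (h2 : ∀ g : S, (g : K) ∈ centralizer (P : Set K) → ca R.sq A g φ = φ) :
    ∃ T : Subgroup S, ¬ 2 ∣ T.index ∧ ∀ g, g ∈ T ↔ ca R.sq A g φ = φ := by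
  obtain ⟨T, h3, h4⟩ := F2.exists_stab R.sq (ι.comp φ)
  refine ⟨T, h3 ▸ R.orb _ (fun z hz => by rw [MonoidHom.comp_apply, h1 z hz, map_one]) fun g hg y y' e =>
    congrArg ι ((ca_iff R.sq ⟨g, hg.1⟩ φ φ).1 (h2 _ hg.2) y y' e), fun g => (h4 g).trans ((ca_iff R.sq g φ φ).trans ?_).symm⟩
  refine forall₃_congr fun y y' _ => ⟨fun e => congrArg ι e, fun e => ?_⟩
  obtain ⟨j, hj⟩ := IsPGroup.iff_card.1 (R.pg.to_le R.le)
  refine div_eq_one.1 (hι _ j ?_ (by rw [map_div]; exact div_eq_one.2 e))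
  rw [div_pow, ← map_pow, ← map_pow, ← hj, pow_card_eq_one', pow_card_eq_one', div_self']

theorem ol' {ι : A →* ℂˣ} (hι : ∀ (a : A) (j : ℕ), a ^ 2 ^ j = 1 → ι a = 1 → a = 1) (R : Res 2 Z D P Q S) {φ : Q →* A}
    (h1 : ∀ z : Q, (z : K) ∈ Z → φ z = 1) (h2 : ∀ g : S, (g : K) ∈ centralizer (P : Set K) → ca R.sq A g φ = φ) {O : Subgroup S}
    [O.Normal] (h3 : ∀ g ∈ O, ((g ^ 2 ^ 2 : S) : K) ∈ centralizer (P : Set K)) {g : S} (hg : g ∈ O) : ca R.sq A g φ = φ := by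
  have := Fact.mk Nat.prime_two
  obtain ⟨T, h4, h5⟩ := key hι R h1 h2
  have : ((centralizer (P : Set K)).subgroupOf S).Normal := normal_subgroupOf_of_le_normalizer (R.sp.trans (norm_le P))
  exact (h5 g).1 (le_of_normal h4 (fun x hx => ⟨2, normal_le_normalCore (N := (centralizer (P : Set K)).subgroupOf S).2
    (fun y hy => (h5 y).2 (h2 y hy)) (h3 x hx)⟩) hg)

/-- `s` induces the same automorphism of `Q` as `u` -/
structure Lf (D Q : Subgroup K) (u : K) (s : S) : Prop where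
  mem : u ∈ D
  cen : u⁻¹ * s ∈ centralizer (Q : Set K)

/-- the context -/
structure Cx (ι : A →* ℂˣ) (Z D P Q S : Subgroup K) (cy : I → C) (π : I → P →* A) (ω : I → Q →* A) : Prop where
  hι : ∀ (a : A) (j : ℕ), a ^ 2 ^ j = 1 → ι a = 1 → a = 1
  hZ : Z ≤ center K
  hQ : Q ≤ centralizer (Q : Set K)
  R : Res 2 Z D P Q S
  nq : D ≤ normalizer (Q : Set K)
  W : Wt Z P Q cy π ω

namespace Cx

variable {ι : A →* ℂˣ} {cy : I → C} {π : I → P →* A} {ω : I → Q →* A} (X : Cx ι Z D P Q S cy π ω)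

/-- the action on the characters of `P` -/
abbrev aP : S →* MulAut (P →* A) := ca X.R.sp A

/-- the action on the characters of `Q` -/
abbrev aQ : S →* MulAut (Q →* A) := ca X.R.sq A

theorem act (g : S) (x : I) : ∃ y, X.aP g (π x) = π y ∧ X.aQ g (ω x) = ω y :=
  (X.W.act g (X.R.sp g.2) (X.R.sq g.2) x).imp fun _ h => ⟨(ca_iff _ _ _ _).2 h.1, (ca_iff _ _ _ _).2 h.2⟩

theorem cenP {g : S} (h : ∀ x, X.aP g (π x) = π x) : (g : K) ∈ centralizer (P : Set K) := fun a ha => by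
  have h1 : g * a * (g : K)⁻¹ ∈ P := (mem_normalizer_iff.1 (X.R.sp g.2) a).1 ha
  have h2 := X.W.pker (⟨_, h1⟩ * ⟨a, ha⟩⁻¹) fun x => by
    rw [map_mul, map_inv, (ca_iff _ _ _ _).1 (h x) ⟨a, ha⟩ ⟨_, h1⟩ rfl, mul_inv_cancel]
  exact (mul_inv_eq_iff_eq_mul.1 (mul_inv_eq_one.1 (congrArg Subtype.val h2))).symm

include X

theorem two (φ : Q →* A) : ∃ j, φ ^ 2 ^ j = 1 := by
  obtain ⟨j, hj⟩ := IsPGroup.iff_card.1 (X.R.pg.to_le X.R.le)
  exact ⟨j, MonoidHom.ext fun y => by rw [MonoidHom.pow_apply, ← map_pow, ← hj, pow_card_eq_one', map_one]; rfl⟩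

theorem two' (φ : Q →* A) (t : Q) : ∃ j, φ t ^ 2 ^ j = 1 := (X.two φ).imp fun _ e => DFunLike.congr_fun e t

theorem m1 {a b : A} (h1 : a ^ 2 = 1) (h2 : a ≠ 1) (h3 : b ^ 2 = 1) (h4 : b ≠ 1) : a * b = 1 := by
  have k : ∀ c : A, c ^ 2 = 1 → c ≠ 1 → ι c = -1 := fun c e1 e2 =>
    Units.ext ((mul_self_eq_one_iff.1 (by rw [← Units.val_mul, ← map_mul, ← sq, e1, map_one, Units.val_one])).resolve_left fun e => e2 (X.hι c 1 e1 (Units.ext e)))
  exact X.hι _ 1 (by rw [pow_one, mul_pow, h1, h3, mul_one]) (by rw [map_mul, k a h1 h2, k b h3 h4, neg_mul_neg, mul_one])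

theorem zsq (x : I) {z : Q} (hz : (z : K) ∈ Z) : ω x z * ω x z = 1 := by
  obtain ⟨y, -, -, h⟩ := X.W.neg x
  have := X.W.zs z hz x y
  rw [h, MonoidHom.inv_apply] at this
  exact mul_eq_one_iff_eq_inv.2 this

theorem gal' {x y : I} (h : π x ≠ 1) (e : π y = (π x)⁻¹) : ∃ n : ℤ, ω y = ω x ^ (4 * n + 3) := by
  obtain ⟨z, -, h1, h2⟩ := X.W.neg x
  obtain ⟨n, hn⟩ := X.W.gal z y (h1 ▸ inv_ne_one.2 h) (e.trans h1.symm)
  exact ⟨-n - 1, by rw [hn, h2, inv_zpow', show -(4 * n + 1) = 4 * (-n - 1) + 3 by ring]⟩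

theorem pow_odd {g : S} (hg : (g : K) ∈ centralizer (P : Set K)) : ∃ n : ℕ, ((g ^ (2 * n + 1) : S) : K) ∈ centralizer (Q : Set K) := by
  have h1 : ((centralizer (P : Set K) ⊓ centralizer (Q : Set K)).subgroupOf (S ⊓ centralizer (P : Set K))).Normal :=
    ⟨fun x hx y => ⟨(y * x * y⁻¹).2.2, (mem_normalizer_iff.1 (norm_le Q (X.R.sq y.2.1)) _).1 hx.2⟩⟩
  obtain ⟨n, hn⟩ := Nat.not_even_iff_odd.1 fun e => X.R.reg e.two_dvd
  exact ⟨n, hn ▸ (pow_index_mem ((centralizer (P : Set K) ⊓ centralizer (Q : Set K)).subgroupOf (S ⊓ centralizer (P : Set K)))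
    ⟨g, g.2, hg⟩).2⟩

/-- `C(P)` fixes the positive weights -/
theorem h0 {g : S} (hg : (g : K) ∈ centralizer (P : Set K)) {x : I} (hx : π x ≠ 1) : X.aQ g (ω x) = ω x := by
  obtain ⟨y, h1, h2⟩ := X.act g x
  obtain ⟨n, hn⟩ := X.W.gal x y hx (h1.symm.trans (ca_cen _ hg _))
  rw [hn] at h2
  have h3 : ∀ j : ℕ, ∃ i : ℤ, X.aQ (g ^ j) (ω x) = ω x ^ (1 + 4 * n * (j + 2 * i)) := fun j => by
    induction j with
    | zero => exact ⟨0, by simp⟩
    | succ j ih =>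
      obtain ⟨i, hi⟩ := ih
      refine ⟨i + 2 * n * (j + 2 * i), ?_⟩
      rw [pow_succ', ca_mul, hi, map_zpow, h2, ← zpow_mul]
      congr 1
      push_cast
      ring
  obtain ⟨m, hm⟩ := X.pow_odd hg
  obtain ⟨i, hi⟩ := h3 (2 * m + 1)
  rw [ca_cen _ hm, zpow_add, zpow_one, left_eq_mul, zpow_mul] at hi
  have h4 : ω x ^ (4 * n) = 1 := o2 ((X.two (ω x ^ (4 * n)))) (n := m + i) (by rw [← hi]; congr 1; push_cast; ring)
  rw [h2, zpow_add, h4, one_mul, zpow_one]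

theorem exists_lf {u : K} (hu : u ∈ D) : ∃ s : S, Lf D Q u s :=
  let ⟨c, h1, h2⟩ := X.R.nrm u hu (X.nq hu)
  ⟨⟨_, h2⟩, hu, by rwa [inv_mul_cancel_left]⟩

theorem lf_mul {u v : K} {s t : S} (h : Lf D Q u s) (h' : Lf D Q v t) : Lf D Q (u * v) (s * t) := ⟨mul_mem h.mem h'.mem, by
  have := mul_mem ((mem_normalizer_iff.1 (norm_le Q (inv_mem (X.nq h'.mem))) _).1 h.cen) h'.cen
  simpa [mul_assoc] using this⟩

theorem lf_pow {u : K} {s : S} (h : Lf D Q u s) (n : ℕ) : Lf D Q (u ^ n) (s ^ n) := by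
  induction n with
  | zero => exact ⟨by simp, by simp⟩
  | succ n ih => rw [pow_succ, pow_succ]; exact X.lf_mul ih h

theorem lf_right {u w : K} {s : S} (h : Lf D Q u s) (hw : w ∈ Q) : Lf D Q (u * w) s := ⟨mul_mem h.mem (X.R.le hw), by
  simpa [mul_assoc] using mul_mem (inv_mem (X.hQ hw)) h.cen⟩

theorem lf_cen {u : K} {s : S} (h : Lf D Q u s) (hu : u ∈ Q) : (s : K) ∈ centralizer (Q : Set K) := by
  simpa using mul_mem (X.hQ hu) h.cen

theorem lf_val {B : Type} [CommGroup B] {u : K} {s : S} (h : Lf D Q u s) (φ : Q →* B) {t t' : Q} (e : (t' : K) = u * t * u⁻¹) :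
    ca X.R.sq B s φ t' = φ t := ca_val _ _ _ (by
  have := h.cen t t.2
  rw [e, show (s : K) = u * (u⁻¹ * s) by group, mul_assoc u _ (t : K), ← this]
  group)

/-- the lifts in `C(P)` -/
theorem h1 {u : K} {s : S} (h : Lf D Q u s) (hs : (s : K) ∈ centralizer (P : Set K)) : u ∈ Q := by
  obtain ⟨n, hn⟩ := X.pow_odd hs
  have h2 : u ^ (2 * n + 1) ∈ centralizer (Q : Set K) := by
    simpa using mul_mem hn (inv_mem (X.lf_pow h (2 * n + 1)).cen)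
  have : (((centralizer (Q : Set K)).subgroupOf D)).Normal := normal_subgroupOf_of_le_normalizer (X.nq.trans (norm_le Q))
  refine X.R.cen ⟨h.mem, (QuotientGroup.eq_one_iff (N := (centralizer (Q : Set K)).subgroupOf D) ⟨u, h.mem⟩).1
    (o2 ((X.R.pg ⟨u, h.mem⟩).imp fun j e => ?_) (n := n) ?_)⟩
  · rw [← QuotientGroup.mk_pow, e, QuotientGroup.mk_one]
  · rw [show 2 * (n : ℤ) + 1 = (2 * n + 1 : ℕ) by push_cast; rfl, zpow_natCast, ← QuotientGroup.mk_pow, QuotientGroup.eq_one_iff]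
    exact h2

theorem ng {φ : Q →* A} (h1 : ∀ z : Q, (z : K) ∈ Z → φ z = 1) (h2 : ∀ g : S, (g : K) ∈ centralizer (P : Set K) → X.aQ g φ = φ)
    {s : S} (h : X.aQ s φ = φ⁻¹) : φ⁻¹ = φ := by
  obtain ⟨T, h3, h4⟩ := key X.hι X.R h1 h2
  by_contra e
  refine h3 (F2.two_dvd (t := s) (fun k => e (h.symm.trans ((h4 s).1 k))) ((h4 _).2 ?_) fun g hg => (h4 _).2 ?_)
  · rw [ca_mul, h, map_inv, h, inv_inv]
  · have h5 : X.aQ s⁻¹ φ = φ⁻¹ := by
      rw [map_inv, MulAut.inv_apply, MulEquiv.symm_apply_eq, map_inv, h, inv_inv]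
    rw [ca_mul, ca_mul, h5, map_inv, map_inv, (h4 g).1 hg, h, inv_inv]

/-- duality -/
theorem dual (h1 : ∀ g : S, (g : K) ∈ centralizer (P : Set K) → ∀ x, X.aQ g (ω x) = ω x)
    (h2 : ∀ g : S, ((g ^ 2 ^ 2 : S) : K) ∈ centralizer (P : Set K)) : ∀ u ∈ D, ∀ t ∈ Q, u * t * u⁻¹ * t⁻¹ ∈ Z := fun u hu t ht => by
  by_contra h
  have h3 : u * t * u⁻¹ ∈ Q := (mem_normalizer_iff.1 (X.nq hu) t).1 ht
  obtain ⟨θ, h4, h5⟩ := F2.exists_sep X.hQ (⟨_, h3⟩ * ⟨t, ht⟩⁻¹) h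
  obtain ⟨s, hs⟩ := X.exists_lf hu
  have h6 := ol' (ι := MonoidHom.id _) (fun _ _ _ e => e) X.R h4 (fun g hg => (ca_iff _ _ _ _).2 fun y y' e => by
    refine mul_inv_eq_one.1 (by
      rw [← map_inv, ← map_mul]
      exact h4 _ (X.W.ker _ fun x => by rw [map_mul, map_inv, (ca_iff _ _ _ _).1 (h1 g hg x) y y' e, mul_inv_cancel])))
    (O := ⊤) (fun g _ => h2 g) (mem_top s)
  have h7 := X.lf_val hs θ (t := ⟨t, ht⟩) (t' := ⟨_, h3⟩) rfl
  rw [h6] at h7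
  exact h5 (by rw [map_mul, map_inv, h7, mul_inv_cancel])

theorem pos {g : S} {x y : I} (h : X.aP g (π x) = π y) (hx : π x ≠ 1) : π y ≠ 1 := fun e =>
  hx ((X.aP g).injective (by rw [h, e, map_one]))

theorem four {G : Type} [Group G] {a : G} (h : ∃ j, a ^ 2 ^ j = 1) {n : ℤ} (e : a ^ (4 * n + 3) = a) : a ^ 2 = 1 :=
  o2 (sq2 h 2) (n := n) (by
    have := X.hZ
    rw [← zpow_natCast, ← zpow_mul, show ((2 : ℕ) : ℤ) * (2 * n + 1) = 4 * n + 3 - 1 by push_cast; ring, zpow_sub, e, zpow_one,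
      mul_inv_cancel])

end Cx

end Cfsg.Agent.BZ.Tw.Co
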