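import Cfsg.Agent.BZ.L.Tw.CoA

/-!
# BZ / Tw : at most one positive cycle, and the separated case (helper7)

`Cx.caseA`, `Cx.caseB`, `Cx.caseC`.
-/

set_option autoImplicit false
set_option linter.unusedSectionVars false

namespace Cfsg.Agent.BZ.Tw.Co

open Subgroup Cfsg.Agent.BZ.L Cfsg.Agent.BZ.Lab.Cor

variable {K : Type} [Group K] [Finite K] {A : Type} [CommGroup A] {I C : Type} {Z D P Q S : Subgroup K}

namespace Cx

variable {ι : A →* ℂˣ} {cy : I → C} {π : I → P →* A} {ω : I → Q →* A} (X : Cx ι Z D P Q S cy π ω)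
include X

theorem caseA (h : ∀ x, π x = 1) : D ≤ Q := fun _ hu =>
  let ⟨_, hs⟩ := X.exists_lf hu
  X.h1 hs (X.cenP fun x => by rw [h x, map_one])

theorem orb (φ : Q →* A) : ∃ O : Finset (Q →* A), Odd O.card ∧
    ∀ ψ, ψ ∈ O ↔ ∃ g : S, (g : K) ∈ centralizer (P : Set K) ∧ X.aQ g φ = ψ := by
  have hE : S ⊓ centralizer (P : Set K) ≤ normalizer (Q : Set K) := inf_le_left.trans X.R.sq
  let _ : MulAction ↥(S ⊓ centralizer (P : Set K)) (Q →* A) := MulAction.compHom _ (ca hE A)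
  have h1 : (MulAction.orbit ↥(S ⊓ centralizer (P : Set K)) φ).Finite := Set.finite_range _
  refine ⟨h1.toFinset, ?_, fun ψ => h1.mem_toFinset.trans ⟨fun ⟨g, e⟩ => ⟨⟨g, g.2.1⟩, g.2.2, e⟩, fun ⟨g, hg, e⟩ => ⟨⟨g, g.2, hg⟩, e⟩⟩⟩
  rw [← Set.ncard_eq_toFinset_card _ h1, ← MulAction.index_stabilizer]
  exact Nat.not_even_iff_odd.1 fun e => X.R.reg (e.two_dvd.trans (index_dvd_of_le fun g hg => ca_cen hE hg.2 φ))

/-- the negative weights -/
def Ng (π : I → P →* A) (ω : I → Q →* A) (a : Q →* A) : Prop := ∃ y, π y = 1 ∧ ω y = a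

theorem ng_act (g : S) {a : Q →* A} (h : Ng π ω a) : Ng π ω (X.aQ g a) := by
  obtain ⟨y, h1, rfl⟩ := h
  obtain ⟨z, h2, h3⟩ := X.act g y
  exact ⟨z, by rw [← h2, h1, map_one], h3.symm⟩

theorem ne_cy {x y : I} (hx : π x ≠ 1) (hy : π y = 1) : cy y ≠ cy x := fun e =>
  ((X.W.cyp x y hx).1 e).elim (fun e => hx (e.symm.trans hy)) fun e => hx (inv_eq_one.1 (e.symm.trans hy))

theorem tt {x : I} (hx : π x ≠ 1) {a : Q →* A} (h : Ng π ω a) :
    ∃ t, ω x t ^ 2 ≠ 1 ∧ a t ≠ 1 ∧ ∀ a', Ng π ω a' → a' ≠ a → a' t = 1 := by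
  obtain ⟨y, h1, rfl⟩ := h
  obtain ⟨t, h2, h3, h4⟩ := X.W.g2 x y hx (X.ne_cy hx h1)
  refine ⟨t, h2, h3, ?_⟩
  rintro _ ⟨z, h5, rfl⟩ e
  exact h4 z (X.ne_cy hx h5) fun e1 => e ((X.W.ngt y h1).2 z e1)

theorem inv_om {s : S} {x : I} (hx : π x ≠ 1) (h : X.aP s (π x) = (π x)⁻¹) : ∃ n : ℤ, X.aQ s (ω x) = ω x ^ (4 * n + 3) := by
  obtain ⟨y, h1, h2⟩ := X.act s x
  rw [h2]
  exact X.gal' hx (h1.symm.trans h)

theorem caseB (M : M2 D P Q π ω) {x : I} (hx : π x ≠ 1) (h : ∀ y, π y ≠ 1 → cy y = cy x) : ⁅D, D⁆ ≤ Z := by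
  classical
  have hs : ∀ y, π y = 1 ∨ π y = π x ∨ π y = (π x)⁻¹ := fun y => (em _).imp_right fun e => (X.W.cyp x y hx).1 (h y e)
  have fx : ∀ g : S, X.aP g (π x) = π x → (g : K) ∈ centralizer (P : Set K) := fun g e => X.cenP fun y => by
    rcases hs y with e1 | e1 | e1 <;> simp only [e1, map_one, map_inv, e]
  have sg : ∀ g : S, X.aP g (π x) = π x ∨ X.aP g (π x) = (π x)⁻¹ := fun g => by
    obtain ⟨y, h1, -⟩ := X.act g x
    exact h1 ▸ (hs y).resolve_left (X.pos h1 hx)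
  have h4 : ∀ g : S, ((g ^ 2 ^ 2 : S) : K) ∈ centralizer (P : Set K) := fun g => by
    rw [sq, pow_mul, coe_pow]
    refine pow_mem (fx _ ?_) 2
    rcases sg g with e | e <;> simp only [sq, ca_mul, e, map_inv, inv_inv]
  have hi : ∀ {u : K} {s : S}, Lf D Q u s → u ∉ Q → X.aP s (π x) = (π x)⁻¹ := fun hs hu =>
    (sg _).resolve_left fun e => hu (X.h1 hs (fx _ e))
  have hB : ∀ u ∈ D, ∀ v ∈ D, u ∉ Q → v ∉ Q → u * v ∈ Q := fun u hu v hv h1 h2 => by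
    obtain ⟨s, hs⟩ := X.exists_lf hu
    obtain ⟨t, ht⟩ := X.exists_lf hv
    exact X.h1 (X.lf_mul hs ht) (fx _ (by rw [ca_mul, hi ht h2, map_inv, hi hs h1, inv_inv]))
  by_cases h0 : ∀ g : S, (g : K) ∈ centralizer (P : Set K) → ∀ y, X.aQ g (ω y) = ω y
  · exact ab_of_two (X.dual h0 h4) hB
  refine ab_of_le X.hQ fun u hu => by_contra fun hu' => ?_
  push Not at h0
  obtain ⟨g, hg, y, hy⟩ := h0
  have h5 : Ng π ω (ω y) := ⟨y, by_contra fun e => hy (X.h0 hg e), rfl⟩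
  obtain ⟨O, o1, o2⟩ := X.orb (ω y)
  have o3 : ∀ a ∈ O, Ng π ω a := fun a ha => let ⟨c, _, e⟩ := (o2 a).1 ha; e ▸ X.ng_act c h5
  obtain ⟨s, hs'⟩ := X.exists_lf hu
  obtain ⟨n, hn⟩ := X.inv_om hx (hi hs' hu')
  have h6 : X.aQ s (ω x * ∏ a ∈ O, a) = ω x * ∏ a ∈ O, a := ol' X.hι X.R (fun z hz => by
    obtain ⟨j, hj⟩ := o1
    rw [MonoidHom.mul_apply, MonoidHom.finsetProd_apply, Finset.prod_congr rfl (g := fun _ => ω x z) fun a ha => by
      obtain ⟨w, -, rfl⟩ := o3 a ha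
      exact X.W.zs z hz w x, Finset.prod_const, hj, pow_succ', pow_mul, sq, ← mul_assoc, X.zsq x hz, one_pow, mul_one])
    (fun c hc => by
      rw [map_mul, X.h0 hc hx, map_prod]
      refine congrArg _ (Finset.prod_bijective (X.aQ c) (X.aQ c).bijective (fun a => ?_) fun _ _ => rfl)
      rw [o2, o2]
      exact ⟨fun ⟨d, hd, e⟩ => ⟨c * d, mul_mem hc hd, by rw [ca_mul, e]⟩, fun ⟨d, hd, e⟩ => ⟨c⁻¹ * d, mul_mem (inv_mem hc) hd, by
        rw [ca_mul, e, ← ca_mul, inv_mul_cancel, map_one, MulAut.one_apply]⟩⟩)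
    (O := ⊤) (fun c _ => h4 c) (mem_top s)
  have dj : ∀ a ∈ O, ∀ a' ∈ O, X.aQ s a' ≠ a := fun a ha a' ha' e => by
    obtain ⟨t, k1, -, k3⟩ := X.tt hx (o3 a ha)
    have h7 := DFunLike.congr_fun h6 t
    rw [map_mul, map_prod, hn, MonoidHom.mul_apply, MonoidHom.mul_apply, MonoidHom.finsetProd_apply, MonoidHom.finsetProd_apply,
      Finset.prod_eq_single_of_mem a' ha' fun c hc e1 => k3 _ (X.ng_act s (o3 c hc)) fun e2 => e1 ((X.aQ s).injective (e2.trans e.symm)),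
      Finset.prod_eq_single_of_mem a ha fun c hc e1 => k3 _ (o3 c hc) e1, e, MonoidHom.zpow_apply] at h7
    exact k1 (X.four (X.two' _ t) (mul_right_cancel h7))
  have step : ∀ a ∈ O, ∀ (u : K) (v : Q), Lf D Q u s → (v : K) = u * u → ∃ (u' : K) (v' : Q), Lf D Q u' s ∧ (v' : K) = u' * u' ∧
      a v' ≠ 1 ∧ ∀ c ∈ O, c ≠ a → c v' = c v := fun a ha u v k1 k2 => by
    by_cases e : a v = 1
    · obtain ⟨t, -, k3, k4⟩ := X.tt hx (o3 a ha)
      have k5 : u⁻¹ * t * u⁻¹⁻¹ ∈ Q := (mem_normalizer_iff.1 (inv_mem (X.nq k1.mem)) (t : K)).1 t.2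
      have k6 : ∀ c ∈ O, c (v * ⟨_, k5⟩ * t) = c v * c t := fun c hc => by
        rw [map_mul, map_mul, ← X.lf_val k1 c (t := ⟨_, k5⟩) (t' := t) (by simp [mul_assoc]),
          k4 _ (X.ng_act s (o3 c hc)) (dj a ha c hc), mul_one]
      refine ⟨u * t, v * ⟨_, k5⟩ * t, X.lf_right k1 t.2, by simp [k2, mul_assoc], by rwa [k6 a ha, e, one_mul], fun c hc e1 => ?_⟩
      rw [k6 c hc, k4 c (o3 c hc) e1, mul_one]
    · exact ⟨u, v, k1, k2, e, fun _ _ _ => rfl⟩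
  have a1 : ω y ∈ O := (o2 _).2 ⟨1, one_mem _, by rw [map_one, MulAut.one_apply]⟩
  have a2 : X.aQ g (ω y) ∈ O := (o2 _).2 ⟨g, hg, rfl⟩
  obtain ⟨u₁, v₁, k1, k2, k3, -⟩ := step _ a1 u ⟨_, hB u hu u hu hu' hu'⟩ hs' rfl
  obtain ⟨w, v, k4, k5, k6, k7⟩ := step _ a2 u₁ v₁ k1 k2
  obtain ⟨y', y1, y2⟩ := o3 _ a2
  obtain ⟨t, -, t1, t2⟩ := X.tt hx h5
  have k8 : w * t * w⁻¹ ∈ Q := (mem_normalizer_iff.1 (X.nq k4.mem) (t : K)).1 t.2
  have k9 : ∀ c ∈ O, c (t * ⟨_, k8⟩) = c t := fun c hc => by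
    have := X.lf_val k4 (X.aQ s c) (t := t) (t' := ⟨_, k8⟩) rfl
    rw [← ca_mul, ca_cen _ (X.lf_cen (X.lf_mul k4 k4) (k5 ▸ v.2)), t2 _ (X.ng_act s (o3 c hc)) (dj _ a1 c hc)] at this
    rw [map_mul, this, mul_one]
  refine M w k4.mem (t * ⟨_, k8⟩) v y y' ⟨k5, ?_, (X.W.ngt y (by_contra fun e => hy (X.h0 hg e))).1, (X.W.ngt y' y1).1,
    by rwa [k9 _ a1], by rw [y2, k9 _ a2, t2 _ (o3 _ a2) hy], by rwa [k7 _ a1 hy.symm], by rwa [y2]⟩ x hx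
    ((injective_iff_map_eq_one _).2 fun a e => X.W.pker a fun z => ?_)
  · have e1 : (t : K) * (w * w) = w * w * t := k5 ▸ X.hQ v.2 t t.2
    have e2 : (t : K) * (w * t * w⁻¹) = w * t * w⁻¹ * t := X.hQ k8 t t.2
    show w * (t * (w * t * w⁻¹)) = t * (w * t * w⁻¹) * w
    rw [e2, show w * (w * t * w⁻¹ * t) = w * w * t * w⁻¹ * t by group, ← e1]
    calc _ = (t : K) * (w * t * w⁻¹) * w := by group
      _ = _ := by rw [e2]
  · rcases hs z with e1 | e1 | e1 <;> simp [e1, e]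

theorem exists_sq (h : ¬ D ≤ Q) : ∃ u ∈ D, u ∉ Q ∧ u * u ∈ Q := by
  by_contra! k
  refine h fun u hu => by_contra fun e => ?_
  have h1 : ∀ j : ℕ, u ^ 2 ^ j ∉ Q := fun j => by
    induction j with
    | zero => simpa using e
    | succ j ih => rw [pow_succ, pow_mul, sq]; exact k _ (pow_mem hu _) ih
  obtain ⟨j, hj⟩ := X.R.pg ⟨u, hu⟩
  exact h1 j (by rw [show u ^ 2 ^ j = 1 from congrArg Subtype.val hj]; exact one_mem _)

/-- the elements which fix all the cycles -/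
def Dl : Subgroup S where
  carrier := {g | ∀ x, X.aP g (π x) = π x ∨ X.aP g (π x) = (π x)⁻¹}
  one_mem' x := Or.inl (by rw [map_one, MulAut.one_apply])
  mul_mem' {g h} hg hh x := by
    rcases hg x with e | e <;> rcases hh x with e' | e' <;> simp only [ca_mul, e, e', map_inv, inv_inv, true_or, or_true]
  inv_mem' {g} hg x := by
    rw [map_inv, MulAut.inv_apply, MulEquiv.symm_apply_eq, MulEquiv.symm_apply_eq, map_inv]
    exact (hg x).imp Eq.symm fun e => by rw [e, inv_inv]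

theorem dl_normal : X.Dl.Normal := ⟨fun g hg h x => by
  obtain ⟨y, h1, -⟩ := X.act h⁻¹ x
  have h2 : X.aP h (π y) = π x := by rw [← h1, ← ca_mul, mul_inv_cancel, map_one, MulAut.one_apply]
  rw [ca_mul, ca_mul, h1]
  exact (hg y).imp (fun e => by rw [e, h2]) fun e => by rw [e, map_inv, h2]⟩

theorem adm {x y : I} {z : Q} (hz : (z : K) ∈ Z) : (ω x * ω y) z = 1 := by
  rw [MonoidHom.mul_apply, X.W.zs z hz y x, X.zsq x hz]

theorem caseC (sep : ∀ x y, π x ≠ 1 → π y ≠ 1 → cy y ≠ cy x → ∃ t, ω x t ^ 2 ≠ 1 ∧ ω y t = 1) {a b : I} (ha : π a ≠ 1)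
    (hb : π b ≠ 1) (hab : cy a ≠ cy b) : D ≤ Q := by
  by_contra h
  obtain ⟨u, hu, h1, h2⟩ := X.exists_sq h
  obtain ⟨s, hs⟩ := X.exists_lf hu
  have h3 : s ∈ X.Dl := fun x => by
    by_cases hx : π x = 1
    · exact Or.inl (by rw [hx, map_one])
    obtain ⟨x', k1, k2⟩ := X.act s x
    rw [k1, ← X.W.cyp x x' hx]
    by_contra e
    obtain ⟨y, -, k3, k4⟩ := X.W.neg x'
    have k5 := X.ng (φ := ω x * ω y) (fun _ => X.adm) (fun g hg => by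
      rw [map_mul, X.h0 hg hx, X.h0 hg (k3 ▸ inv_ne_one.2 (X.pos k1 hx))]) (s := s) (by
        rw [map_mul, k4, map_inv, k2, ← k2, ← ca_mul, ca_cen _ (X.lf_cen (X.lf_mul hs hs) h2), k2, mul_inv_rev, inv_inv])
    obtain ⟨t, k6, k7⟩ := sep x x' hx (X.pos k1 hx) e
    have k8 := DFunLike.congr_fun k5 t
    rw [MonoidHom.inv_apply, MonoidHom.mul_apply, k4, MonoidHom.inv_apply, k7, inv_one, mul_one] at k8
    exact k6 (by rw [sq]; exact mul_eq_one_iff_inv_eq.2 k8)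
  obtain ⟨x, hx⟩ : ∃ x, X.aP s (π x) ≠ π x := by
    by_contra! e
    exact h1 (X.h1 hs (X.cenP e))
  have h4 : π x ≠ 1 := fun e => hx (by rw [e, map_one])
  obtain ⟨n, hn⟩ := X.inv_om h4 ((h3 x).resolve_left hx)
  obtain ⟨y, h5, h6⟩ : ∃ y, π y ≠ 1 ∧ cy y ≠ cy x := by
    by_cases e : cy a = cy x
    · exact ⟨b, hb, fun e1 => hab (e.trans e1.symm)⟩
    · exact ⟨a, ha, e⟩
  obtain ⟨m, hm⟩ : ∃ m : ℤ, X.aQ s (ω y) = ω y ^ m := by
    obtain ⟨y', k1, k2⟩ := X.act s y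
    rw [k2]
    exact (h3 y).elim (fun e => (X.W.gal y y' h5 (k1.symm.trans e)).elim fun _ e => ⟨_, e⟩)
      fun e => (X.gal' h5 (k1.symm.trans e)).elim fun _ e => ⟨_, e⟩
  have := X.dl_normal
  have h7 := ol' X.hι X.R (φ := ω x * ω y) (fun _ => X.adm) (fun g hg => by rw [map_mul, X.h0 hg h4, X.h0 hg h5]) (O := X.Dl)
    (fun g hg => by
      rw [sq, pow_mul, coe_pow]
      refine pow_mem (X.cenP fun z => ?_) 2
      rcases hg z with e | e <;> simp only [sq, ca_mul, e, map_inv, inv_inv]) h3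
  obtain ⟨t, k1, k2⟩ := sep x y h4 h5 h6
  have h8 := DFunLike.congr_fun h7 t
  rw [map_mul, hn, hm, MonoidHom.mul_apply, MonoidHom.mul_apply, MonoidHom.zpow_apply, MonoidHom.zpow_apply, k2, one_zpow] at h8
  exact k1 (X.four (X.two' _ t) (mul_right_cancel h8))

end Cx

end Cfsg.Agent.BZ.Tw.Co
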