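import Cfsg.Agent.BZ.L.Tw.Defs
import Cfsg.Agent.BZ.L.F2.Dat

/-!
# BZ / Tw : tools for `BoxSq` (helper5)

* `exists_perm`, `arith`; `sum_J` (sums over the weights), `Sm`, `sm_conj` (conjugate elements have the same weights);
* `In`, `eta` (the signed indicator of a cycle), `cy_iff`, `exists_vec`.
-/

set_option autoImplicit false
set_option linter.unusedSectionVars false

namespace Cfsg.Agent.BZ.Tw.Sq

open Cfsg Subgroup Matrix Cfsg.Agent.DL Cfsg.Agent.KM Cfsg.Agent.BZ.L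

theorem exists_perm {k J : Type} [Field k] [Fintype J] [DecidableEq J] (g : GL J k) :
    ∃ π : Equiv.Perm J, ∀ j, (g : Matrix J J k) (π j) j ≠ 0 := by
  by_contra! h
  refine (Matrix.isUnits_det_units g).ne_zero ?_
  rw [det_apply]
  refine Finset.sum_eq_zero fun π _ => ?_
  obtain ⟨j, e⟩ := h π
  exact smul_eq_zero_of_right _ (Finset.prod_eq_zero (f := fun i => (g : Matrix J J k) (π i) i) (Finset.mem_univ j) e)

theorem arith {R : Type} [Fintype R] {a κ : R → ℤ} {e : ℤ} (he : e % 8 = 5) (ha : ∀ i, a i % 4 = 2) (hκ : Even (∑ i, κ i))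
    (h : e ^ 2 * ∑ i, a i ^ 2 = ∑ i, (a i + 16 * κ i) ^ 2) : 4 ∣ (Fintype.card R : ℤ) := by
  obtain ⟨T, hT⟩ := hκ
  obtain ⟨f, rfl⟩ : ∃ f, e = 8 * f + 5 := ⟨e / 8, by omega⟩
  choose m hm using fun i => (⟨a i / 4, by have := ha i; omega⟩ : ∃ m, a i = 4 * m + 2)
  have h1 : ∑ i, a i ^ 2 = 16 * ∑ i, (m i ^ 2 + m i) + 4 * Fintype.card R := by
    rw [Finset.mul_sum, ← Finset.card_univ, mul_comm (4 : ℤ), ← nsmul_eq_mul, ← Finset.sum_const, ← Finset.sum_add_distrib]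
    exact Finset.sum_congr rfl fun i _ => by rw [hm]; ring
  have h2 : ∑ i, (a i + 16 * κ i) ^ 2 = ∑ i, a i ^ 2 + 128 * ∑ i, (m i * κ i + 2 * κ i ^ 2) + 64 * ∑ i, κ i := by
    rw [Finset.mul_sum, Finset.mul_sum, ← Finset.sum_add_distrib, ← Finset.sum_add_distrib]
    exact Finset.sum_congr rfl fun i _ => by rw [hm]; ring
  rw [h2, hT, h1] at h
  generalize ∑ i, (m i ^ 2 + m i) = S at h
  generalize ∑ i, (m i * κ i + 2 * κ i ^ 2) = U at h
  have h3 : (4 : ℤ) ∣ (2 * f + 3) * (Fintype.card R : ℤ) :=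
    ⟨U + T - (8 * f ^ 2 + 10 * f + 3) * S - (2 * f ^ 2 + 2 * f) * Fintype.card R, by linarith⟩
  exact (show IsCoprime (4 : ℤ) (2 * f + 3) from ⟨-(f + 1) * (f + 2), 2 * f + 3, by ring⟩).dvd_of_dvd_mul_left h3

variable {p : ℕ} [Fact p.Prime] {k : Type} [Field k] [CharP k p] [IsAlgClosed k] {Y : Type} [Group Y] {N : Type} [Fintype N]
  [DecidableEq N] {ρ : Y →* GL N k} {F : MulAut Y} {G : Subgroup Y} {J : Type} [Fintype J] [DecidableEq J]
  {X : Datum p ρ F G} {θ : Y →* GL J k} {μ : J → X.R → ℤ} {f : ℕ} {e : ℤ} {b : X.R → J} {σ : Equiv.Perm J}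

/-- a sum over the basic weights -/
def Sm (μ : J → X.R → ℤ) (b : X.R → J) (g : kˣ → ℤ) (c : X.R → kˣ) : ℤ := ∑ i, g (chr (μ (b i)) c)

/-- the orbit -/
def In (μ : J → X.R → ℤ) (σ : Equiv.Perm J) (x : J) (w : X.R → ℤ) : Prop := ∃ i : ℕ, w = μ ((σ ^ i) x)

open Classical in
/-- the signed indicator of the cycle -/
noncomputable def eta (μ : J → X.R → ℤ) (σ : Equiv.Perm J) (x : J) (w : X.R → ℤ) : ℤ :=
  if In μ σ x w then 1 else if In μ σ x (-w) then -1 else 0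

theorem in_self (x : J) : In μ σ x (μ x) := ⟨0, rfl⟩

theorem eta_self (x : J) : eta μ σ x (μ x) = 1 := if_pos (in_self x)

theorem eta_neg {x : J} (hx : ∀ w, In μ σ x w → ¬ In μ σ x (-w)) (w : X.R → ℤ) : eta μ σ x (-w) = -eta μ σ x w := by
  have := hx w
  unfold eta
  rw [neg_neg]
  split_ifs <;> first | rfl | simp_all

variable (h : Nt2 X θ μ f e b σ)
include h

theorem e0 : e ≠ 0 := by
  have := pow_pos (Fact.out : p.Prime).pos f
  rcases h.eq with e | e <;> omega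

theorem two_ne (h4 : 4 ∣ e - 1) : 2 ≠ p := by
  rintro rfl
  have : 2 ∣ 2 ^ f := dvd_pow_self 2 h.f0.ne'
  rcases h.eq with e | e <;> omega

theorem b_eq {s : ℤ} {i j : X.R} (e : μ (b i) = s • μ (b j)) : s = 1 ∧ i = j := by
  obtain ⟨V, hV⟩ := h.bas
  have h1 : ∀ i j, μ (b i) ⬝ᵥ (fun l => V l j) = if i = j then 2 else 0 := fun i j => by
    have := congrFun (congrFun hV i) j
    rw [Matrix.smul_apply, one_apply, smul_eq_mul, mul_ite, mul_one, mul_zero] at this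
    exact this
  have h2 := h1 i i
  rw [e, smul_dotProduct, h1, if_pos rfl, smul_eq_mul] at h2
  split_ifs at h2 with e'
  · exact ⟨by omega, e'.symm⟩
  · omega

theorem b_ne (i : X.R) : μ (b i) ≠ 0 := fun e => zero_ne_one (b_eq h (e.trans (zero_smul ℤ (μ (b i))).symm)).1

theorem ext_vec {v v' : X.R → ℤ} (e : ∀ i, μ (b i) ⬝ᵥ v = μ (b i) ⬝ᵥ v') : v = v' := by
  obtain ⟨V, hV⟩ := h.bas
  have h1 := congrArg (V *ᵥ ·) (show (Matrix.of fun i => μ (b i)) *ᵥ v = (Matrix.of fun i => μ (b i)) *ᵥ v' from funext e)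
  simp only [mulVec_mulVec, Cl.mul_two_comm hV, smul_mulVec, one_mulVec] at h1
  exact smul_right_injective _ two_ne_zero h1

theorem sum_J (g : (X.R → ℤ) → ℤ) (h0 : g 0 = 0) (h1 : ∀ w, g (-w) = g w) : ∑ j, g (μ j) = 2 * ∑ i, g (μ (b i)) := by
  choose ν hν using h.neg
  rw [← Fintype.sum_of_injective (Sum.elim b (ν ∘ b)) ?_ (fun x => g (μ (Sum.elim b (ν ∘ b) x))) _ (fun j hj => ?_) fun _ => rfl,
    Fintype.sum_sum_type, two_mul]
  · simp only [Sum.elim_inl, Sum.elim_inr, Function.comp_apply, hν, h1]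
  · rintro (i | i) (j | j) e <;> have e' := congrArg μ e <;> simp only [Sum.elim_inl, Sum.elim_inr, Function.comp_apply, hν] at e'
    · rw [(b_eq h (e'.trans (one_smul ℤ _).symm)).2]
    · exact absurd (b_eq h (e'.trans (neg_one_smul ℤ _).symm)).1 (by decide)
    · exact absurd (b_eq h (e'.symm.trans (neg_one_smul ℤ _).symm)).1 (by decide)
    · rw [(b_eq h ((neg_injective e').trans (one_smul ℤ _).symm)).2]
  · by_cases e : μ j = 0
    · rw [e, h0]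
    · obtain ⟨i, e' | e'⟩ := (h.cov j).resolve_left e
      · exact absurd ⟨Sum.inl i, (h.inj _ _ e e').symm⟩ hj
      · exact absurd ⟨Sum.inr i, (h.inj _ _ e (e'.trans (hν _).symm)).symm⟩ hj

theorem conj_perm (g : Y) : ∃ π : Equiv.Perm J, ∀ c c', g * X.τ c * g⁻¹ = X.τ c' → ∀ j, chr (μ (π j)) c' = chr (μ j) c :=
  let ⟨π, hπ⟩ := exists_perm (θ g)
  ⟨π, fun _ _ e j => h.nt.conj _ _ (hπ j) e⟩

/-- conjugate elements have the same weights -/
theorem sm_conj {g : Y} {c c' : X.R → kˣ} (e : g * X.τ c * g⁻¹ = X.τ c') {φ : kˣ → ℤ} (hφ : ∀ x, φ x⁻¹ = φ x) :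
    Sm μ b φ c' = Sm μ b φ c := by
  obtain ⟨π, hπ⟩ := conj_perm h g
  have h1 : ∀ c : X.R → kˣ, ∑ j, (φ (chr (μ j) c) - φ 1) = 2 * ∑ i, (φ (chr (μ (b i)) c) - φ 1) := fun c =>
    sum_J h (fun w => φ (chr w c) - φ 1) (by simp only [chr_zero, sub_self]) fun w => by simp only [chr_neg, hφ]
  have h2 := h1 c'
  rw [← Equiv.sum_comp π] at h2
  simp only [hπ c c' e, h1, Finset.sum_sub_distrib] at h2
  unfold Sm
  omega

theorem step {s : ℤ} {j j' : J} (e' : s • μ j = μ j') (m : ℕ) : s • μ ((σ ^ m) j) = μ ((σ ^ m) j') := by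
  induction m with
  | zero => exact e'
  | succ m ih =>
    refine smul_right_injective _ (e0 h) ?_
    beta_reduce
    rw [pow_succ', Equiv.Perm.mul_apply, Equiv.Perm.mul_apply, smul_comm, ← h.fr, ← h.fr, ← ih, smul_vecMul]

theorem in_pow {s : ℤ} {x j : J} (e' : In μ σ x (s • μ j)) (m : ℕ) : In μ σ x (s • μ ((σ ^ m) j)) :=
  let ⟨i, hi⟩ := e'
  ⟨m + i, (step h hi m).trans (by rw [pow_add, Equiv.Perm.mul_apply])⟩

theorem in_step (s : ℤ) (x j : J) : In μ σ x (s • μ (σ j)) ↔ In μ σ x (s • μ j) := by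
  refine ⟨fun e' => ?_, fun e' => in_pow h e' 1⟩
  have := in_pow h e' (orderOf σ - 1)
  rwa [← Equiv.Perm.mul_apply, ← pow_succ, Nat.sub_add_cancel (orderOf_pos σ), pow_orderOf_eq_one] at this

theorem eta_step (x j : J) : eta μ σ x (μ (σ j)) = eta μ σ x (μ j) := by
  have h1 := in_step h 1 x j
  have h2 := in_step h (-1) x j
  simp only [one_smul, neg_smul] at h1 h2
  unfold eta
  rw [h1, h2]

theorem in_symm {s : ℤ} (hs : s * s = 1) {x j : J} (e' : In μ σ x (s • μ j)) : In μ σ j (s • μ x) := by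
  obtain ⟨i, hi⟩ := e'
  have := step h hi ((orderOf σ - 1) * i)
  rw [← Equiv.Perm.mul_apply, ← pow_add, ← add_one_mul, Nat.sub_one_add_one (orderOf_pos σ).ne', pow_mul σ (orderOf σ), pow_orderOf_eq_one,
    one_pow] at this
  exact ⟨_, by rw [← show _ = μ x from this, smul_smul, hs, one_smul]⟩

theorem cy_sub {s : ℤ} (hs : s = 1 ∨ s = -1) {x j : {j // μ j ≠ 0}} (e' : In μ σ x (s • μ j)) : Cy μ σ j ⊆ Cy μ σ x := by
  rintro w ⟨m, hm⟩
  obtain ⟨i, hi⟩ := in_pow h e' m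
  refine ⟨i, ?_⟩
  rcases hs with rfl | rfl <;> rcases hm with rfl | rfl <;> simp [← hi]

theorem cy_iff {x j : {j // μ j ≠ 0}} : Cy μ σ j = Cy μ σ x ↔ In μ σ x (μ j) ∨ In μ σ x (-μ j) := by
  refine ⟨fun e' => ?_, fun e' => ?_⟩
  · obtain ⟨i, hi | hi⟩ := e'.le ⟨0, Or.inl rfl⟩
    · exact Or.inl ⟨i, hi⟩
    · exact Or.inr ⟨i, neg_eq_iff_eq_neg.2 hi⟩
  · obtain ⟨s, hs, h1⟩ : ∃ s : ℤ, (s = 1 ∨ s = -1) ∧ In μ σ x (s • μ j) := e'.elim
      (fun e => ⟨1, Or.inl rfl, by rwa [one_smul]⟩) fun e => ⟨-1, Or.inr rfl, by rwa [neg_one_smul]⟩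
    exact (cy_sub h hs h1).antisymm (cy_sub h hs (in_symm h (by rcases hs with rfl | rfl <;> rfl) h1))

theorem eta_of {x j : {j // μ j ≠ 0}} (e' : Cy μ σ j = Cy μ σ x) : eta μ σ x (μ j) = 1 ∨ eta μ σ x (μ j) = -1 := by
  have := (cy_iff h).1 e'
  unfold eta
  split_ifs <;> simp_all

theorem eta_of_ne {x j : {j // μ j ≠ 0}} (e' : Cy μ σ j ≠ Cy μ σ x) : eta μ σ x (μ j) = 0 := by
  have := mt (cy_iff h).2 e'
  unfold eta
  split_ifs <;> simp_all

/-- the cocharacter of a cycle -/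
theorem vec_fix {x : J} (hx : ∀ w, In μ σ x w → ¬ In μ σ x (-w)) {c : ℤ} {v : X.R → ℤ}
    (hv : ∀ i, μ (b i) ⬝ᵥ v = c * eta μ σ x (μ (b i))) : (∀ j, μ j ⬝ᵥ v = c * eta μ σ x (μ j)) ∧ X.Mx *ᵥ v = e • v := by
  have h1 : ∀ j, μ j ⬝ᵥ v = c * eta μ σ x (μ j) := fun j => by
    rcases h.cov j with e' | ⟨i, e' | e'⟩
    · have := eta_neg hx 0
      rw [neg_zero] at this
      rw [e', zero_dotProduct, show eta μ σ x 0 = 0 by omega, mul_zero]
    · rw [e', hv]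
    · rw [e', neg_dotProduct, hv, eta_neg hx, mul_neg]
  exact ⟨h1, ext_vec h fun i => by rw [dotProduct_mulVec, h.fr, smul_dotProduct, dotProduct_smul, h1, h1, eta_step h]⟩

end Cfsg.Agent.BZ.Tw.Sq
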