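import Cfsg.Agent.BZ.L.Tw.Defs
import Cfsg.Agent.BZ.L.Two.B
import Cfsg.Agent.BZ.L.Two.A

/-!
# BZ, classical groups at the prime two : the cycles of the non-zero weights (helper31)

`Rl` (the same unsigned cycle), `Cf` (the permutations of the non-zero weights), `Cf.cy_iff`, `Cf.norm`.
-/

set_option autoImplicit false
set_option linter.unusedSectionVars false
set_option maxHeartbeats 400000

namespace Cfsg.Agent.BZ.Tw.WtA

open Cfsg Subgroup Matrix Cfsg.Agent.DL Cfsg.Agent.KM Cfsg.Agent.Nodes.Reps Cfsg.Agent.BZ.Cl Cfsg.Agent.BZ.Two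

section rel

variable {I : Type} [Fintype I] [DecidableEq I] {τ ν : Equiv.Perm I}

/-- the same unsigned cycle -/
def Rl (τ ν : Equiv.Perm I) (x y : I) : Prop := τ.SameCycle x y ∨ τ.SameCycle (ν x) y

variable (hb : ∀ j, ν (τ j) = τ (ν j)) (bb : ∀ j, ν (ν j) = j)
include hb bb

theorem Rl.symm {x y : I} (h : Rl τ ν x y) : Rl τ ν y x :=
  h.imp (·.symm) fun e => by rw [← same_bar hb, bb]; exact e.symm

theorem Rl.trans {x y z : I} (h : Rl τ ν x y) (h' : Rl τ ν y z) : Rl τ ν x z := by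
  rcases h with h | h <;> rcases h' with h' | h'
  · exact Or.inl (h.trans h')
  · exact Or.inr (((same_bar hb).2 h).trans h')
  · exact Or.inr (h.trans h')
  · rw [← same_bar hb, bb] at h
    exact Or.inl (h.trans h')

omit bb in
theorem pow_bar (i : ℕ) (j : I) : ν ((τ ^ i) j) = (τ ^ i) (ν j) := by
  induction i with
  | zero => rfl
  | succ i ih => rw [pow_succ', Equiv.Perm.mul_apply, hb, ih, Equiv.Perm.mul_apply]

omit hb bb in
/-- the telescoping sum -/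
theorem tele {e : ℤ} {n : ℕ} (hn : τ ^ n = 1) (h0 : 0 < n) {a g : I → ℤ} (hg : ∀ j, g j = ∑ i ∈ Finset.range n, e ^ i * a ((τ ^ i) j))
    (gb : ∀ j, g (ν j) = -g j) {x : I} (h1 : a x = 1) (h2 : ∀ i : ℕ, a ((τ ^ i) x) ≠ 0 → (τ ^ i) x = x ∨ (τ ^ i) x = ν x) :
    ∃ l : ℕ, (e ^ l - 1) * g x = e ^ n - 1 ∨ (τ.SameCycle x (ν x) ∧ (-e ^ l - 1) * g x = e ^ n - 1) := by
  classical
  have ex : ∃ l : ℕ, 0 < l ∧ ((τ ^ l) x = x ∨ (τ ^ l) x = ν x) := ⟨n, h0, Or.inl (by rw [hn, Equiv.Perm.one_apply])⟩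
  obtain ⟨k1, k2⟩ := Nat.find_spec ex
  have k3 : ∑ i ∈ Finset.range (Nat.find ex), e ^ i * a ((τ ^ i) x) = 1 := by
    rw [Finset.sum_eq_single_of_mem 0 (Finset.mem_range.2 k1) fun i hi h3 => mul_eq_zero_of_right _ (not_not.1 fun h4 =>
      Nat.find_min ex (Finset.mem_range.1 hi) ⟨Nat.pos_of_ne_zero h3, h2 i h4⟩), pow_zero, pow_zero, Equiv.Perm.one_apply, h1, mul_one]
  generalize Nat.find ex = l at k1 k2 k3
  have k4 : 1 + e ^ l * g ((τ ^ l) x) = g x + e ^ n := by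
    have k5 := Finset.sum_range_add (fun i => e ^ i * a ((τ ^ i) x)) l n
    rw [add_comm l n, Finset.sum_range_add, k3, ← hg] at k5
    have k6 : ∑ i ∈ Finset.range l, e ^ (n + i) * a ((τ ^ (n + i)) x) = e ^ n := by
      rw [← mul_one (e ^ n), ← k3, Finset.mul_sum]
      exact Finset.sum_congr rfl fun i _ => by rw [pow_add, pow_add, hn, one_mul, mul_assoc]
    rw [k6] at k5
    rw [k5, hg, Finset.mul_sum]
    exact congrArg _ (Finset.sum_congr rfl fun i _ => by rw [pow_add, add_comm l i, pow_add τ, Equiv.Perm.mul_apply, mul_assoc])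
  refine ⟨l, k2.imp (fun e1 => ?_) fun e1 => ⟨⟨l, by rw [zpow_natCast, e1]⟩, ?_⟩⟩
  · rw [e1] at k4
    linear_combination k4
  · rw [e1, gb] at k4
    linear_combination k4

end rel

variable {p : ℕ} [Fact p.Prime] {k : Type} [Field k] [CharP k p] [IsAlgClosed k] {Y : Type} [Group Y] {N : Type} [Fintype N]
  [DecidableEq N] {ρ : Y →* GL N k} {F : MulAut Y} {G : Subgroup Y} {J : Type} [Fintype J] [DecidableEq J]
  {X : Datum p ρ F G} {θ : Y →* GL J k} {μ : J → X.R → ℤ} {f : ℕ} {e : ℤ} {b : X.R → J} {σ : Equiv.Perm J}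

theorem p_dvd (h : Nt2 X θ μ f e b σ) : (p : ℤ) ∣ e := by
  have : (p : ℤ) ∣ (p ^ f : ℕ) := Int.natCast_dvd_natCast.2 (dvd_pow_self p h.f0.ne')
  rcases h.eq with e1 | e1 <;> rw [e1]
  · exact this
  · exact this.neg_right

theorem e_ne (h : Nt2 X θ μ f e b σ) : e ≠ 0 := by
  have := (pow_pos (Fact.out : p.Prime).pos f).ne'
  rcases h.eq with e | e <;> rw [e] <;> omega

theorem fr_pow (h : Nt2 X θ μ f e b σ) (j : J) (m : ℕ) : μ j ᵥ* X.Mx ^ m = e ^ m • μ ((σ ^ m) j) := by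
  induction m with
  | zero => simp
  | succ m ih => rw [pow_succ, ← vecMul_vecMul, ih, smul_vecMul, h.fr, smul_smul, pow_succ, pow_succ', Equiv.Perm.mul_apply]

theorem mx_pow (h : Nt2 X θ μ f e b σ) {n : ℕ} (hn : σ ^ n = 1) : X.Mx ^ n = e ^ n • 1 := by
  obtain ⟨V, hV⟩ := h.bas
  have h1 : (Matrix.of fun i => μ (b i)) * X.Mx ^ n = e ^ n • Matrix.of fun i => μ (b i) := Matrix.ext fun i j => by
    have := congrFun (fr_pow h (b i) n) j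
    rw [hn] at this
    exact this
  have h2 := congrArg (V * ·) h1
  simp only [← Matrix.mul_assoc, Matrix.mul_smul, mul_two_comm hV, Matrix.smul_mul, Matrix.one_mul, smul_comm (e ^ n)] at h2
  exact smul_right_injective _ two_ne_zero h2

theorem sig_iff (h : Nt2 X θ μ f e b σ) (j : J) : μ (σ j) ≠ 0 ↔ μ j ≠ 0 := by
  have h1 : ∀ j m, μ j = 0 → μ ((σ ^ m) j) = 0 := fun j m e1 => by
    have := fr_pow h j m
    rw [e1, zero_vecMul] at this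
    exact (smul_eq_zero.1 this.symm).resolve_left (pow_ne_zero _ (e_ne h))
  refine not_congr ⟨fun e1 => ?_, fun e1 => by simpa using h1 j 1 e1⟩
  have := h1 _ (orderOf σ - 1) e1
  rwa [← Equiv.Perm.mul_apply, ← pow_succ, Nat.sub_add_cancel (orderOf_pos σ), pow_orderOf_eq_one] at this

theorem exists_ord (h : Nt2 X θ μ f e b σ) {s : ℕ} (hs : s.Prime) (he : (s : ℤ) ∣ e - 1) (j : ℕ) : ∃ ζ : kˣ, orderOf ζ = s ^ j := by
  have h0 : (s : k) ≠ 0 := fun e1 => by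
    obtain rfl := (Nat.prime_dvd_prime_iff_eq Fact.out hs).1 ((CharP.cast_eq_zero_iff k p s).1 e1)
    exact hs.one_lt.ne' (Nat.dvd_one.1 (Int.natCast_dvd_natCast.1 (by simpa using dvd_sub (p_dvd h) he)))
  have : NeZero ((s ^ j : ℕ) : k) := ⟨by rw [Nat.cast_pow]; exact pow_ne_zero _ h0⟩
  obtain ⟨ζ, h⟩ := HasEnoughRootsOfUnity.exists_primitiveRoot k (s ^ j)
  have h1 := (pow_pos hs.pos j).ne'
  exact ⟨(h.isUnit h1).unit, (h.isUnit_unit h1).eq_orderOf.symm⟩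

/-- the permutations of the non-zero weights -/
structure Cf {R : Type} (μ : J → R → ℤ) (σ : Equiv.Perm J) (τ ν : Equiv.Perm {j // μ j ≠ 0}) : Prop where
  co : ∀ (i : ℕ) x, ((τ ^ i) x : J) = (σ ^ i) x
  br : ∀ x, μ (ν x) = -μ x
  inj : ∀ x y : {j // μ j ≠ 0}, μ x = μ y → x = y
  cm : ∀ x, ν (τ x) = τ (ν x)
  bb : ∀ x, ν (ν x) = x

theorem exists_cf (h : Nt2 X θ μ f e b σ) : ∃ τ ν, Cf μ σ τ ν := by
  have hi : Function.Injective fun x : {j // μ j ≠ 0} => μ x := fun x y e1 => Subtype.ext (h.inj _ _ x.2 e1)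
  obtain ⟨ν, h1, h2⟩ := exists_bar (X := X) hi fun x => let ⟨j, hj⟩ := h.neg x; ⟨⟨j, by rw [hj]; exact neg_ne_zero.2 x.2⟩, hj⟩
  refine ⟨σ.subtypePerm (sig_iff h), ν, fun i x => by rw [Equiv.Perm.subtypePerm_pow]; rfl, h1, hi, fun x => hi ?_, h2⟩
  refine smul_right_injective _ (e_ne h) ?_
  show e • μ (ν _) = e • μ (σ (ν x))
  rw [← h.fr, h1, h1, neg_vecMul, h.fr, smul_neg]
  rfl

namespace Cf

variable {τ ν : Equiv.Perm {j // μ j ≠ 0}} (c : Cf μ σ τ ν)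
include c

theorem co1 (x : {j // μ j ≠ 0}) : (τ x : J) = σ x := by simpa using c.co 1 x

theorem mem_cy {x : {j // μ j ≠ 0}} {w : X.R → ℤ} : w ∈ Cy μ σ x ↔ ∃ y, Rl τ ν x y ∧ w = μ y := by
  constructor
  · rintro ⟨i, rfl | rfl⟩
    · exact ⟨(τ ^ i) x, Or.inl ⟨i, by rw [zpow_natCast]⟩, by rw [c.co]⟩
    · exact ⟨ν ((τ ^ i) x), Or.inr ⟨i, by rw [zpow_natCast, pow_bar c.cm]⟩, by rw [c.br, c.co]⟩
  · rintro ⟨y, h | h, rfl⟩ <;> obtain ⟨i, -, rfl⟩ := h.exists_pow_eq'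
    · exact ⟨i, Or.inl (by rw [c.co])⟩
    · exact ⟨i, Or.inr (by rw [← pow_bar c.cm, c.br, c.co])⟩

theorem cy_iff {x y : {j // μ j ≠ 0}} : Cy μ σ y = Cy μ σ x ↔ Rl τ ν x y := by
  refine ⟨fun h => ?_, fun h => Set.ext fun w => ?_⟩
  · obtain ⟨z, h1, h2⟩ := c.mem_cy.1 (h ▸ c.mem_cy.2 ⟨y, Or.inl (.refl _ _), rfl⟩)
    rwa [c.inj _ _ h2]
  · rw [c.mem_cy, c.mem_cy]
    exact exists_congr fun z => and_congr_left' ⟨h.trans c.cm c.bb, (h.symm c.cm c.bb).trans c.cm c.bb⟩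

/-- a cocharacter with two non-zero coordinates -/
theorem exists_v (h : Nt2 X θ μ f e b σ) {x y : {j // μ j ≠ 0}} (hxy : ¬ Rl τ ν x y) : ∃ v : X.R → ℤ, μ x ⬝ᵥ v = 1 ∧ μ y ⬝ᵥ v = 1 ∧
    ∀ z : {j // μ j ≠ 0}, μ z ⬝ᵥ v ≠ 0 → (z = x ∨ z = ν x) ∨ z = y ∨ z = ν y := by
  have cov : ∀ z : {j // μ j ≠ 0}, ∃ i, ∃ s : ℤ, s * s = 1 ∧ μ z = s • μ (b i) := fun z => by
    obtain ⟨i, e1 | e1⟩ := (h.cov z).resolve_left z.2
    · exact ⟨i, 1, rfl, by rw [e1, one_smul]⟩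
    · exact ⟨i, -1, rfl, by rw [e1, neg_one_smul]⟩
  choose ix s h1 h2 using cov
  have h3 : ∀ z z', ix z = ix z' → z = z' ∨ z = ν z' := fun z z' e1 => by
    rcases Int.eq_one_or_neg_one_of_mul_eq_one (h1 z) with e2 | e2 <;> rcases Int.eq_one_or_neg_one_of_mul_eq_one (h1 z') with e3 | e3
    · exact Or.inl (c.inj _ _ (by rw [h2, h2, e1, e2, e3]))
    · exact Or.inr (c.inj _ _ (by rw [c.br, h2 z, h2 z', e1, e2, e3]; simp))
    · exact Or.inr (c.inj _ _ (by rw [c.br, h2 z, h2 z', e1, e2, e3]; simp))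
    · exact Or.inl (c.inj _ _ (by rw [h2, h2, e1, e2, e3]))
  have h4 : ix y ≠ ix x := fun e1 => hxy ((h3 _ _ e1).imp (fun e2 => by rw [e2]) fun e2 => by rw [e2])
  obtain ⟨v, hv⟩ := h.ev (Pi.single (ix x) (s x) + Pi.single (ix y) (s y)) (by
    simp only [Pi.add_apply, Finset.sum_add_distrib, Finset.sum_pi_single', Finset.mem_univ, if_true]
    exact (Int.odd_mul.1 (h1 x ▸ odd_one)).1.add_odd (Int.odd_mul.1 (h1 y ▸ odd_one)).1)
  refine ⟨v, ?_, ?_, fun z hz => ?_⟩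
  · rw [h2, smul_dotProduct, hv, Pi.add_apply, Pi.single_eq_same, Pi.single_eq_of_ne h4.symm, add_zero, smul_eq_mul, h1]
  · rw [h2, smul_dotProduct, hv, Pi.add_apply, Pi.single_eq_same, Pi.single_eq_of_ne h4, zero_add, smul_eq_mul, h1]
  · by_contra e1
    rw [not_or] at e1
    refine hz ?_
    rw [h2, smul_dotProduct, hv, Pi.add_apply, Pi.single_eq_of_ne fun e2 => e1.1 (h3 _ _ e2),
      Pi.single_eq_of_ne fun e2 => e1.2 (h3 _ _ e2), add_zero, smul_zero]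

/-- **the norm of a cocharacter** -/
theorem norm (h : Nt2 X θ μ f e b σ) (h4 : 4 ∣ e - 1) {x y : {j // μ j ≠ 0}} (hx : ¬ τ.SameCycle x (ν x)) (hxy : ¬ Rl τ ν x y) :
    ∃ (t : X.R → kˣ) (n : ℕ), F (X.τ t) = X.τ t ∧ t ^ 2 ^ n = 1 ∧ chr (μ x) t ^ 2 ≠ 1 ∧ chr (μ y) t ≠ 1 ∧
      ∀ z, ¬ Rl τ ν x z → ¬ Rl τ ν y z → chr (μ z) t = 1 := by
  obtain ⟨v, v1, v2, v3⟩ := c.exists_v h hxy
  have hn := pow_orderOf_eq_one σ
  have h0 := orderOf_pos σ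
  generalize orderOf σ = n at hn h0
  have hτ : τ ^ n = 1 := Equiv.ext fun z => Subtype.ext (by rw [c.co, hn]; rfl)
  have h1 : e ^ n - 1 ≠ 0 := fun e1 => (Fact.out : p.Prime).one_lt.ne' (Nat.dvd_one.1 (Int.natCast_dvd_natCast.1 (by
    rw [Nat.cast_one, ← sub_eq_zero.1 e1]
    exact dvd_pow (p_dvd h) h0.ne')))
  obtain ⟨a, o, h2, h3⟩ := Nat.exists_eq_two_pow_mul_odd (Int.natAbs_ne_zero.2 h1)
  have h5 : ((2 ^ a : ℕ) : ℤ) ∣ e ^ n - 1 := Int.natCast_dvd.2 ⟨o, h3⟩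
  have h6 : ¬ 2 * ((2 ^ a : ℕ) : ℤ) ∣ e ^ n - 1 := fun e1 => by
    rw [← Nat.cast_two, ← Nat.cast_mul, Int.natCast_dvd, h3, mul_comm 2, Nat.mul_dvd_mul_iff_left (by positivity)] at e1
    exact h2.not_two_dvd_nat e1
  obtain ⟨ξ, hξ⟩ := exists_ord h Nat.prime_two ((show (2 : ℤ) ∣ 4 by norm_num).trans h4) a
  let u := (∑ i ∈ Finset.range n, X.Mx ^ i) *ᵥ v
  have hg : ∀ z : {j // μ j ≠ 0}, μ z ⬝ᵥ u = ∑ i ∈ Finset.range n, e ^ i * (μ ((τ ^ i) z) ⬝ᵥ v) := fun z => by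
    rw [dotProduct_mulVec, vecMul_sum, sum_dotProduct]
    exact Finset.sum_congr rfl fun i _ => by rw [fr_pow h, smul_dotProduct, c.co, smul_eq_mul]
  have hc : ∀ z : {j // μ j ≠ 0}, chr (μ z) (coch u ξ) = ξ ^ (μ z ⬝ᵥ u) := fun z => chr_coch _ _ _
  have h7 : ∀ l : ℕ, 4 ∣ e ^ l - 1 := fun l => h4.trans (by simpa using sub_dvd_pow_sub_pow e 1 l)
  have gb : ∀ z : {j // μ j ≠ 0}, μ (ν z) ⬝ᵥ u = -(μ z ⬝ᵥ u) := fun z => by rw [c.br, neg_dotProduct]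
  have r1 : ∀ (z w : {j // μ j ≠ 0}) (i : ℕ), (τ ^ i) z = w ∨ (τ ^ i) z = ν w → Rl τ ν w z := fun z w i e1 =>
    e1.imp (fun e2 => .symm ⟨i, by rw [zpow_natCast, e2]⟩) fun e2 => .symm ⟨i, by rw [zpow_natCast, e2]⟩
  refine ⟨coch u ξ, a, fix_tau.2 (funext fun i => ?_), by rw [← map_pow, ← hξ, pow_orderOf_eq_one, map_one], fun e1 => ?_,
    fun e1 => ?_, fun z z1 z2 => ?_⟩
  · have e1 := congrFun (congrArg (· *ᵥ v) (mul_geom_sum X.Mx n)) i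
    simp only [← mulVec_mulVec, sub_mulVec, one_mulVec, mx_pow h hn, smul_mulVec, Pi.sub_apply, Pi.smul_apply, smul_eq_mul] at e1
    rw [mon_apply, chr_coch, coch_apply, zpow_eq_zpow_iff_modEq, hξ]
    refine (Int.modEq_iff_dvd.2 ?_).symm
    rw [show ∑ j, X.Mx i j * u j - u i = (e ^ n - 1) * v i from e1.trans (by ring)]
    exact h5.mul_right _
  · obtain ⟨l, e2⟩ := tele hτ h0 (a := fun z => μ z ⬝ᵥ v) hg gb v1 fun i e2 =>
      (v3 _ e2).resolve_right fun e3 => hxy ((r1 _ _ _ e3).symm c.cm c.bb)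
    rw [hc, ← zpow_natCast, ← _root_.zpow_mul, ← orderOf_dvd_iff_zpow_eq_one, hξ] at e1
    obtain ⟨w, e3⟩ := h7 l
    refine h6 ((e2.resolve_right fun e3 => hx e3.1) ▸ ?_)
    rw [e3, show 4 * w * (μ x ⬝ᵥ u) = 2 * (μ x ⬝ᵥ u * (2 : ℕ)) * w by push_cast; ring]
    exact (mul_dvd_mul_left 2 e1).mul_right _
  · obtain ⟨l, e2⟩ := tele hτ h0 (a := fun z => μ z ⬝ᵥ v) hg gb v2 fun i e2 =>
      (v3 _ e2).resolve_left fun e3 => hxy (r1 _ _ _ e3)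
    rw [hc, ← orderOf_dvd_iff_zpow_eq_one, hξ] at e1
    have e3 := h7 l
    refine h6 ?_
    rcases e2 with e2 | ⟨-, e2⟩ <;> rw [← e2] <;> exact mul_dvd_mul (by omega) e1
  · rw [hc, hg, Finset.sum_eq_zero fun i _ => mul_eq_zero_of_right _ (not_not.1 fun e2 =>
      (v3 _ e2).elim (fun e3 => z1 (r1 _ _ _ e3)) fun e3 => z2 (r1 _ _ _ e3)), zpow_zero]

end Cf

end Cfsg.Agent.BZ.Tw.WtA
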